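import Mathlib
import Groth.Prelude.Def_EtGm
import Groth.Agent.Lib.Helper22.CechU.EtaleCov

/-!
# Affine objects of the small étale site and sections of `G_m` over them (helper22)

For an étale morphism `e : Spec A ⟶ X` and an étale `A`-algebra `R`, `aff e R` is the object
`Spec R ⟶ Spec A ⟶ X` of the small étale site of `X`; `A`-algebra maps give morphisms `affMap`.
Sections of `G_m` over `aff e R` are the units of `R` (`toGm`).
-/

set_option autoImplicit false
set_option linter.unusedSectionVars false

universe u

open CategoryTheory CategoryTheory.Limits AlgebraicGeometry Opposite TensorProduct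

namespace Groth.Agent.Lib.Helper22.H90

noncomputable section

variable {X : Scheme.{u}} {A : Type u} [CommRing A] (e : Spec (CommRingCat.of A) ⟶ X) [Etale e]

section Aff

/-- `Spec` of the structure map of an `A`-algebra. -/
def sm (R : Type u) [CommRing R] [Algebra A R] :
    Spec (CommRingCat.of R) ⟶ Spec (CommRingCat.of A) :=
  Spec.map (CommRingCat.ofHom (algebraMap A R))

instance etale_sm (R : Type u) [CommRing R] [Algebra A R] [Algebra.Etale A R] :
    Etale (sm (A := A) R) := by
  unfold sm
  rw [HasRingHomProperty.Spec_iff (P := @Etale)]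
  exact RingHom.etale_algebraMap.mpr inferInstance

/-- The affine object `Spec R ⟶ Spec A ⟶ X` of the small étale site. -/
def aff (R : Type u) [CommRing R] [Algebra A R] [Algebra.Etale A R] : X.Etale :=
  MorphismProperty.Over.mk ⊤ (sm (A := A) R ≫ e) inferInstance

variable {R R' R'' : Type u} [CommRing R] [CommRing R'] [CommRing R''] [Algebra A R]
  [Algebra A R'] [Algebra A R''] [Algebra.Etale A R] [Algebra.Etale A R'] [Algebra.Etale A R'']

lemma sm_comp (f : R →ₐ[A] R') :
    Spec.map (CommRingCat.ofHom f.toRingHom) ≫ sm (A := A) R = sm (A := A) R' := by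
  unfold sm
  rw [← Spec.map_comp, ← CommRingCat.ofHom_comp]
  congr 2
  exact f.comp_algebraMap

/-- The morphism of affine objects induced by an `A`-algebra map. -/
def affMap (f : R →ₐ[A] R') : aff e R' ⟶ aff e R :=
  MorphismProperty.Over.homMk (Spec.map (CommRingCat.ofHom f.toRingHom)) (by
    change Spec.map _ ≫ sm (A := A) R ≫ e = sm (A := A) R' ≫ e
    rw [← Category.assoc, sm_comp]) trivial

@[simp]
lemma affMap_left (f : R →ₐ[A] R') :
    (affMap e f).left = Spec.map (CommRingCat.ofHom f.toRingHom) := rfl

lemma affMap_comp (f : R →ₐ[A] R') (g : R' →ₐ[A] R'') :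
    affMap e (g.comp f) = affMap e g ≫ affMap e f := by
  apply MorphismProperty.Over.Hom.ext
  change Spec.map (CommRingCat.ofHom (g.comp f).toRingHom) =
    Spec.map (CommRingCat.ofHom g.toRingHom) ≫ Spec.map (CommRingCat.ofHom f.toRingHom)
  rw [← Spec.map_comp, ← CommRingCat.ofHom_comp]
  rfl

lemma affMap_congr {f g : R →ₐ[A] R'} (h : f = g) : affMap e f = affMap e g := by rw [h]

end Aff

section Gm

variable (R : Type u) [CommRing R] [Algebra A R] [Algebra.Etale A R]

/-- The type of sections of `G_m` over an object. -/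
abbrev GmSec (T : X.Etale) : Type (u + 1) := ULift.{u + 1} (Additive (Γ(T.left, ⊤))ˣ)

/-- Units of `R` as sections of `G_m` over `aff e R`. -/
def toGm (a : Rˣ) : (EtCoh.Gm X).obj.obj (op (aff e R)) :=
  (ULift.up (Additive.ofMul (Units.map
    ((Scheme.ΓSpecIso (CommRingCat.of R)).inv.hom : R →* Γ(Spec (CommRingCat.of R), ⊤)) a)) :
    GmSec (aff e R))

variable {R}

lemma toGm_mul (a b : Rˣ) : toGm e R (a * b) = toGm e R a + toGm e R b := by
  apply ULift.ext
  change Additive.ofMul (Units.map _ (a * b)) = Additive.ofMul (Units.map _ a) +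
    Additive.ofMul (Units.map _ b)
  rw [map_mul]
  rfl

lemma toGm_injective : Function.Injective (toGm e R) := by
  intro a b h
  have h1 : Units.map ((Scheme.ΓSpecIso (CommRingCat.of R)).inv.hom :
      R →* Γ(Spec (CommRingCat.of R), ⊤)) a = Units.map _ b :=
    congrArg (fun t : GmSec (aff e R) => t.down.toMul) h
  apply Units.ext
  have h2 := congrArg Units.val h1
  have h3 := congrArg (Scheme.ΓSpecIso (CommRingCat.of R)).hom.hom h2
  simpa using h3

lemma toGm_surjective (s : (EtCoh.Gm X).obj.obj (op (aff e R))) : ∃ a : Rˣ, toGm e R a = s := by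
  let s' : GmSec (aff e R) := s
  refine ⟨Units.map ((Scheme.ΓSpecIso (CommRingCat.of R)).hom.hom :
    Γ(Spec (CommRingCat.of R), ⊤) →* R) s'.down.toMul, ?_⟩
  apply ULift.ext
  apply Additive.toMul.injective
  apply Units.ext
  change (Scheme.ΓSpecIso (CommRingCat.of R)).inv.hom
    ((Scheme.ΓSpecIso (CommRingCat.of R)).hom.hom
      (Units.val (α := Γ(Spec (CommRingCat.of R), ⊤)) s'.down.toMul)) = _
  simp
  rfl

variable {R' : Type u} [CommRing R'] [Algebra A R'] [Algebra.Etale A R']

/-- Restriction of units along a morphism of affine objects. -/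
lemma map_toGm (f : R →ₐ[A] R') (a : Rˣ) :
    (EtCoh.Gm X).obj.map (affMap e f).op (toGm e R a) = toGm e R' (Units.map f.toRingHom a) := by
  apply ULift.ext
  apply Additive.toMul.injective
  apply Units.ext
  change (Spec.map (CommRingCat.ofHom f.toRingHom)).appTop.hom
    ((Scheme.ΓSpecIso (CommRingCat.of R)).inv.hom (a : R)) =
    (Scheme.ΓSpecIso (CommRingCat.of R')).inv.hom (f (a : R))
  have h := Scheme.ΓSpecIso_inv_naturality (CommRingCat.ofHom f.toRingHom)
  have h2 := congrArg (fun φ : CommRingCat.of R ⟶ Γ(Spec (CommRingCat.of R'), ⊤) =>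
    φ.hom (a : R)) h
  exact h2.symm

end Gm

end

end Groth.Agent.Lib.Helper22.H90
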