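import Groth.Agent.Lib.Helper22.H90.Prod
import Groth.Agent.Lib.Helper10.Hilbert90

/-!
# Hilbert 90 on the small étale site: sections of a quotient of `G_m`-extensions lift Zariski
locally (helper22)
-/

set_option autoImplicit false
set_option linter.unusedSectionVars false

universe u

open CategoryTheory CategoryTheory.Limits AlgebraicGeometry Opposite TensorProduct

namespace Groth.Agent.Lib.Helper22.H90

open Groth.Agent.Lib.Helper10.Amitsur Groth.Agent.Lib.Helper10.Hilbert90

noncomputable section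

variable {X : Scheme.{u}} {A : Type u} [CommRing A] (e : Spec (CommRingCat.of A) ⟶ X) [Etale e]
  (B : Type u) [CommRing B] [Algebra A B] [Algebra.Etale A B]
  {I Q : EtCoh.Ab X} (f : EtCoh.Gm X ⟶ I) (g : I ⟶ Q)
  (hinj : ∀ T : X.Etale, Function.Injective (f.hom.app (op T)))
  (hzero : ∀ (T : X.Etale) (z : (EtCoh.Gm X).obj.obj (op T)),
    g.hom.app (op T) (f.hom.app (op T) z) = 0)
  (hex : ∀ (T : X.Etale) (y : I.obj.obj (op T)), g.hom.app (op T) y = 0 →
    ∃ z, f.hom.app (op T) z = y)

section helpers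

variable {R R' R'' : Type u} [CommRing R] [CommRing R'] [CommRing R''] [Algebra A R]
  [Algebra A R'] [Algebra A R''] [Algebra.Etale A R] [Algebra.Etale A R'] [Algebra.Etale A R'']

lemma map_affMap_comp (F : EtCoh.Ab X) (k : R →ₐ[A] R') (k' : R' →ₐ[A] R'')
    (t : F.obj.obj (op (aff e R))) :
    F.obj.map (affMap e k').op (F.obj.map (affMap e k).op t) =
      F.obj.map (affMap e (k'.comp k)).op t := by
  rw [affMap_comp, op_comp, Functor.map_comp, ConcreteCategory.comp_apply]

lemma ofId_eq (k : A →ₐ[A] R) : k = Algebra.ofId A R := by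
  ext

lemma f_nat {R R' : Type u} [CommRing R] [CommRing R'] [Algebra A R] [Algebra A R']
    [Algebra.Etale A R] [Algebra.Etale A R'] {F G : EtCoh.Ab X} (φ : F ⟶ G) (k : R →ₐ[A] R')
    (z : F.obj.obj (op (aff e R))) :
    G.obj.map (affMap e k).op (φ.hom.app _ z) = φ.hom.app _ (F.obj.map (affMap e k).op z) :=
  (NatTrans.naturality_apply φ.hom (affMap e k).op z).symm

end helpers

include hinj hzero hex in
/-- The difference of the two pullbacks of a local lift is a unit Amitsur cocycle. -/
lemma exists_unit_cocycle (s : Q.obj.obj (op (aff e A))) (t : I.obj.obj (op (aff e B)))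
    (ht : g.hom.app _ t = Q.obj.map (affMap e (Algebra.ofId A B)).op s) :
    ∃ u : (B ⊗[A] B)ˣ,
      f.hom.app _ (toGm e (B ⊗[A] B) u) =
        I.obj.map (affMap e (j2 A B)).op t - I.obj.map (affMap e (j1 A B)).op t ∧
      IsCocycle (u : B ⊗[A] B) := by
  have hgd : g.hom.app _ (I.obj.map (affMap e (j2 A B)).op t -
      I.obj.map (affMap e (j1 A B)).op t) = 0 := by
    rw [map_sub, ← f_nat e g, ← f_nat e g, ht, map_affMap_comp, map_affMap_comp,
      ofId_eq ((j2 A B).comp (Algebra.ofId A B)), ofId_eq ((j1 A B).comp (Algebra.ofId A B)),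
      sub_self]
  obtain ⟨z, hz⟩ := hex _ _ hgd
  obtain ⟨u, rfl⟩ := toGm_surjective e z
  refine ⟨u, hz, ?_⟩
  -- the cocycle condition
  have hc : f.hom.app _ ((EtCoh.Gm X).obj.map (affMap e (j12 A B)).op (toGm e (B ⊗[A] B) u) +
      (EtCoh.Gm X).obj.map (affMap e (j23 A B)).op (toGm e (B ⊗[A] B) u)) =
      f.hom.app _ ((EtCoh.Gm X).obj.map (affMap e (j13 A B)).op (toGm e (B ⊗[A] B) u)) := by
    rw [map_add, ← f_nat e f, ← f_nat e f, ← f_nat e f, hz, map_sub, map_sub, map_sub,
      map_affMap_comp, map_affMap_comp, map_affMap_comp, map_affMap_comp, map_affMap_comp,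
      map_affMap_comp, j12_comp_j1, j12_comp_j2, j13_comp_j2]
    abel
  have hc2 := hinj _ hc
  rw [map_toGm, map_toGm, map_toGm, ← toGm_mul] at hc2
  have hc3 := congrArg Units.val (toGm_injective e hc2)
  exact hc3

section Local

variable {B}

/-- The unit of `A_r ⊗ B` attached to `h` with `h * l' = r`. -/
def unitOf (r : A) (h l' : B) (hl : h * l' = algebraMap A B r) :
    (Localization.Away r ⊗[A] B)ˣ :=
  Units.mkOfMulEqOne ((1 : Localization.Away r) ⊗ₜ[A] h)
    ((IsLocalization.Away.invSelf (S := Localization.Away r) r) ⊗ₜ[A] l') (by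
      rw [Algebra.TensorProduct.tmul_mul_tmul, one_mul, hl, Algebra.algebraMap_eq_smul_one,
        ← TensorProduct.smul_tmul, Algebra.smul_def, IsLocalization.Away.mul_invSelf]
      rfl)

lemma unitOf_val (r : A) (h l' : B) (hl : h * l' = algebraMap A B r) :
    ((unitOf r h l' hl : (Localization.Away r ⊗[A] B)ˣ) : Localization.Away r ⊗[A] B) =
      (1 : Localization.Away r) ⊗ₜ[A] h := rfl

lemma surjective_includeLeft [Module.FaithfullyFlat A B] (r : A) :
    Function.Surjective (Spec.map (CommRingCat.ofHom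
      (Algebra.TensorProduct.includeLeft :
        Localization.Away r →ₐ[A] Localization.Away r ⊗[A] B).toRingHom)).base := by
  have h := PrimeSpectrum.comap_surjective_of_faithfullyFlat
    (A := Localization.Away r) (B := Localization.Away r ⊗[A] B)
  exact h

end Local

include hinj hzero hex in
/-- **Hilbert 90, sheaf form.** If a section `s` of `Q` over `Spec A` lifts to `I` over a
faithfully flat étale `Spec B → Spec A`, where `0 → G_m → I → Q` is exact, then `s` lifts to `I`
over a principal open neighbourhood of any given prime of `A`. -/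
theorem exists_local_lift [Module.FaithfullyFlat A B] (s : Q.obj.obj (op (aff e A)))
    (t : I.obj.obj (op (aff e B)))
    (ht : g.hom.app _ t = Q.obj.map (affMap e (Algebra.ofId A B)).op s)
    (p : Ideal A) [p.IsPrime] :
    ∃ (r : A) (_ : r ∉ p) (t'' : I.obj.obj (op (aff e (Localization.Away r)))),
      g.hom.app _ t'' = Q.obj.map (affMap e (Algebra.ofId A (Localization.Away r))).op s := by
  obtain ⟨u, hu1, hu2⟩ := exists_unit_cocycle e B f g hinj hzero hex s t ht
  have huv : (u : B ⊗[A] B) * ((u⁻¹ : (B ⊗[A] B)ˣ) : B ⊗[A] B) = 1 := Units.mul_inv u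
  obtain ⟨r, h, l', hr, hh, hl⟩ := exists_local_coboundary hu2 huv p
  refine ⟨r, hr, ?_⟩
  let Ar := Localization.Away r
  let B' := Ar ⊗[A] B
  let ρ : B →ₐ[A] B' := Algebra.TensorProduct.includeRight
  let π : Ar →ₐ[A] B' := Algebra.TensorProduct.includeLeft
  let ρ2 : B ⊗[A] B →ₐ[A] B' ⊗[A] B' := Algebra.TensorProduct.map ρ ρ
  let h' : B'ˣ := unitOf r h l' hl
  let t₁ : I.obj.obj (op (aff e B')) :=
    I.obj.map (affMap e ρ).op t - f.hom.app _ (toGm e B' h')
  have hsurj : Function.Surjective (affMap e π).left.base := surjective_includeLeft r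
  -- the ring identity
  have hring : Units.map (ρ2.toRingHom : B ⊗[A] B →* B' ⊗[A] B') u *
      Units.map ((j1 A B').toRingHom : B' →* B' ⊗[A] B') h' =
      Units.map ((j2 A B').toRingHom : B' →* B' ⊗[A] B') h' := by
    apply Units.ext
    have h1 := congrArg ρ2 hh
    rw [map_mul] at h1
    have e1 : ρ2 (j1 A B h) = j1 A B' (h' : B') := by
      change ρ2 (h ⊗ₜ[A] (1 : B)) = _
      rw [Algebra.TensorProduct.map_tmul, map_one]
      rfl
    have e2 : ρ2 (j2 A B h) = j2 A B' (h' : B') := by
      change ρ2 ((1 : B) ⊗ₜ[A] h) = _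
      rw [Algebra.TensorProduct.map_tmul, map_one]
      rfl
    rw [e1, e2] at h1
    exact h1
  -- compatibility on the double fibre product
  have hk1 : (j1 A B').comp ρ = ρ2.comp (j1 A B) := by
    ext b
    simp [ρ2]
  have hk2 : (j2 A B').comp ρ = ρ2.comp (j2 A B) := by
    ext b
    simp [ρ2]
  have key : I.obj.map (affMap e (j1 A B')).op t₁ = I.obj.map (affMap e (j2 A B')).op t₁ := by
    have hd : I.obj.map (affMap e ρ2).op (f.hom.app _ (toGm e (B ⊗[A] B) u)) =
        I.obj.map (affMap e ((j2 A B').comp ρ)).op t -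
          I.obj.map (affMap e ((j1 A B').comp ρ)).op t := by
      rw [hu1, map_sub, map_affMap_comp, map_affMap_comp, hk1, hk2]
    rw [f_nat e f, map_toGm] at hd
    change I.obj.map (affMap e (j1 A B')).op (I.obj.map (affMap e ρ).op t -
      f.hom.app _ (toGm e B' h')) = I.obj.map (affMap e (j2 A B')).op
        (I.obj.map (affMap e ρ).op t - f.hom.app _ (toGm e B' h'))
    rw [map_sub, map_sub, map_affMap_comp, map_affMap_comp, f_nat e f, f_nat e f, map_toGm,
      map_toGm, ← hring, toGm_mul, map_add, hd]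
    abel
  have hcompat : ∀ (Z : X.Etale) (g₁ g₂ : Z ⟶ aff e B'),
      g₁ ≫ affMap e π = g₂ ≫ affMap e π → I.obj.map g₁.op t₁ = I.obj.map g₂.op t₁ := by
    intro Z g₁ g₂ hg
    have hg' : g₁ ≫ affMap e (Algebra.ofId A B') = g₂ ≫ affMap e (Algebra.ofId A B') := by
      rw [← ofId_eq (π.comp (Algebra.ofId A Ar)), affMap_comp, ← Category.assoc,
        ← Category.assoc, hg]
    obtain ⟨w, hw1, hw2⟩ := exists_prod_lift e g₁ g₂ hg'
    rw [← hw1, ← hw2, op_comp, op_comp, Functor.map_comp, Functor.map_comp,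
      ConcreteCategory.comp_apply, ConcreteCategory.comp_apply]
    exact congrArg _ key
  obtain ⟨t'', ht''⟩ := exists_descent (affMap e π) hsurj I t₁ hcompat
  refine ⟨t'', ?_⟩
  apply eq_of_cover (affMap e π) hsurj Q
  rw [f_nat e g, ht'', map_affMap_comp]
  change g.hom.app _ (I.obj.map (affMap e ρ).op t - f.hom.app _ (toGm e B' h')) = _
  rw [map_sub, hzero, sub_zero, ← f_nat e g, ht, map_affMap_comp]
  rw [ofId_eq (ρ.comp (Algebra.ofId A B)), ofId_eq (π.comp (Algebra.ofId A Ar))]

end

end Groth.Agent.Lib.Helper22.H90
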