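import Groth.Agent.Lib.Helper22.EtAcyc.LocZero

/-!
# A class `δ(β)` dies on an étale `B' → B` as soon as the section `β` lifts there (helper22)
-/

set_option autoImplicit false
set_option linter.unusedSectionVars false

universe u

open CategoryTheory CategoryTheory.Limits Opposite AlgebraicGeometry Abelian

namespace Groth.Agent.Lib.Helper22.H90

open Groth.Agent.Lib.Helper22.EtLoc Groth.Agent.Lib.Helper22.DimShift
open Groth.Agent.Lib.Helper22.CechU.Etale Groth.Agent.Lib.Helper22.EtAcycLib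

attribute [local instance] Groth.Agent.Lib.Helper22.EtAcycLib.pfl

variable {B B' : Scheme.{u}} (m : B' ⟶ B) [Etale m]

/-- If a global section lifts over an étale `B' → B`, its boundary dies on `B'`. -/
lemma Hpull_δ_eq_zero_of_lift (S : ShortComplex (EtCoh.Ab B)) (hS : S.ShortExact)
    (β : EtCoh.H B S.X₃ 0) (t : (pj m).obj (EtCoh.top B') ⟶ EtCoh.top B)
    (b : S.X₂.obj.obj (op ((pj m).obj (EtCoh.top B'))))
    (hb : S.g.hom.app _ b =
      S.X₃.obj.map t.op (Sheaf.H.equiv₀ S.X₃ (EtCore.topIsTerminal B) β)) :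
    EtCore.Hpull m S.X₁ 1
      ((β : Ext (EtCoh.const B ℤ) S.X₃ 0).comp hS.extClass (zero_add 1)) = 0 := by
  rw [Hpull_δ m S hS 0 1 (zero_add 1) β]
  let γ : EtCoh.H B' ((EtCoh.pull m).obj S.X₂) 0 := (σH m S.X₂).symm b
  have h4 : (γ : Ext (EtCoh.const B' ℤ) ((EtCoh.pull m).obj S.X₂) 0).comp
      (Ext.mk₀ ((EtCoh.pull m).map S.g)) (add_zero 0) = EtCore.Hpull m S.X₃ 0 β := by
    apply (σH m S.X₃).injective
    rw [σH_naturality, σH_Hpull m S.X₃ t β, AddEquiv.apply_symm_apply, hb]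
  rw [← h4, Ext.comp_assoc_of_second_deg_zero]
  have h5 := (hS.map_of_exact (EtCoh.pull m)).comp_extClass
  change (γ : Ext (EtCoh.const B' ℤ) ((EtCoh.pull m).obj S.X₂) 0).comp
    ((Ext.mk₀ (S.map (EtCoh.pull m)).g).comp
      (hS.map_of_exact (EtCoh.pull m)).extClass (zero_add 1)) (zero_add 1) = 0
  rw [h5]
  exact Ext.comp_zero (γ : Ext (EtCoh.const B' ℤ) ((EtCoh.pull m).obj S.X₂) 0) _ _ _ _

end Groth.Agent.Lib.Helper22.H90
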