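import Groth.Agent.Lib.Helper22.H90.Core
import Groth.Agent.Lib.Helper22.H90.Lift

/-!
# Hilbert 90: classes in `H¹(X_ét, G_m)` are Zariski locally trivial (helper22)
-/

set_option autoImplicit false
set_option linter.unusedSectionVars false

universe u

open CategoryTheory CategoryTheory.Limits Opposite AlgebraicGeometry Abelian TensorProduct

namespace Groth.Agent.Lib.Helper22.H90

open Groth.Agent.Lib.Helper22.EtLoc Groth.Agent.Lib.Helper22.DimShift
open Groth.Agent.Lib.Helper22.CechU.Etale Groth.Agent.Lib.Helper22.EtAcycLib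

attribute [local instance] Groth.Agent.Lib.Helper22.EtAcycLib.pfl

noncomputable section

variable {X : Scheme.{u}}

/-- An étale neighbourhood contains an affine piece lying surjectively over an affine open
neighbourhood of the image point. -/
lemma exists_affine_piece (V : X.Etale) (v : V.left) :
    ∃ (X₁ : X.Opens) (_ : IsAffineOpen X₁) (V₂ : V.left.Opens) (_ : IsAffineOpen V₂)
      (_ : V₂ ≤ (V.hom : V.left ⟶ X) ⁻¹ᵁ X₁),
      (V.hom : V.left ⟶ X) v ∈ X₁ ∧
      ∀ y ∈ X₁, ∃ v' ∈ V₂, (V.hom : V.left ⟶ X) v' = y := by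
  have hE : Etale (V.hom : V.left ⟶ X) := V.prop
  let f : V.left ⟶ X := V.hom
  obtain ⟨X₀, hX₀, hxX₀, -⟩ := TopologicalSpace.Opens.isBasis_iff_nbhd.mp
    X.isBasis_affineOpens (show f v ∈ (⊤ : X.Opens) from trivial)
  have hX₀ : IsAffineOpen X₀ := hX₀
  obtain ⟨V₁, hV₁, hvV₁, hV₁le⟩ := TopologicalSpace.Opens.isBasis_iff_nbhd.mp
    V.left.isBasis_affineOpens (show v ∈ f ⁻¹ᵁ X₀ from hxX₀)
  have hV₁ : IsAffineOpen V₁ := hV₁
  let O : X.Opens := ⟨f '' V₁, f.isOpenMap _ V₁.isOpen⟩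
  have hxO : f v ∈ O := ⟨v, hvV₁, rfl⟩
  obtain ⟨a, ha1, ha2⟩ := hX₀.exists_basicOpen_le (V := O) ⟨f v, hxO⟩ hxX₀
  let a' : Γ(V.left, V₁) := (f.appLE X₀ V₁ hV₁le).hom a
  have hV₂eq : V.left.basicOpen a' = V₁ ⊓ f ⁻¹ᵁ X.basicOpen a := by
    change V.left.basicOpen ((f.app X₀ ≫ V.left.presheaf.map (homOfLE hV₁le).op).hom a) = _
    rw [CommRingCat.hom_comp, RingHom.comp_apply]
    rw [Scheme.basicOpen_res, Scheme.preimage_basicOpen]
  refine ⟨X.basicOpen a, hX₀.basicOpen a, V.left.basicOpen a', hV₁.basicOpen a', ?_, ha2, ?_⟩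
  · rw [hV₂eq]
    exact inf_le_right
  · intro y hy
    obtain ⟨v', hv'1, hv'2⟩ := ha1 hy
    refine ⟨v', ?_, hv'2⟩
    rw [hV₂eq]
    refine ⟨hv'1, ?_⟩
    change f v' ∈ X.basicOpen a
    rw [hv'2]
    exact hy

section OpenLift

variable {A : Type u} [CommRing A] (e : Spec (CommRingCat.of A) ⟶ X) [IsOpenImmersion e]
  (B : Type u) [CommRing B] [Algebra A B] [Algebra.Etale A B] [Module.FaithfullyFlat A B]
  {I Q : EtCoh.Ab X} (f : EtCoh.Gm X ⟶ I) (g : I ⟶ Q)
  (hinj : ∀ T : X.Etale, Function.Injective (f.hom.app (op T)))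
  (hzero : ∀ (T : X.Etale) (z : (EtCoh.Gm X).obj.obj (op T)),
    g.hom.app (op T) (f.hom.app (op T) z) = 0)
  (hex : ∀ (T : X.Etale) (y : I.obj.obj (op T)), g.hom.app (op T) y = 0 →
    ∃ z, f.hom.app (op T) z = y)

lemma map_from_top (F : EtCoh.Ab X) {T T' : X.Etale} (k : T' ⟶ T) (b : F.obj.obj (op (EtCoh.top X))) :
    F.obj.map k.op (F.obj.map ((EtCore.topIsTerminal X).from T).op b) =
      F.obj.map ((EtCore.topIsTerminal X).from T').op b := by
  rw [← ConcreteCategory.comp_apply, ← Functor.map_comp, ← op_comp]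
  have h : k ≫ (EtCore.topIsTerminal X).from T = (EtCore.topIsTerminal X).from T' :=
    (EtCore.topIsTerminal X).hom_ext _ _
  rw [h]

include hinj hzero hex in
/-- If a global section `b` of `Q` lifts to `I` over `Spec B → Spec A ⊆ X`, it lifts to `I` over a
Zariski open neighbourhood of any given point of `Spec A`. -/
theorem exists_open_lift (b : Q.obj.obj (op (EtCoh.top X))) (z : I.obj.obj (op (aff e B)))
    (hz : g.hom.app _ z = Q.obj.map ((EtCore.topIsTerminal X).from (aff e B)).op b)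
    (p : PrimeSpectrum A) :
    ∃ U : X.Opens, e p ∈ U ∧ ∃ b' : I.obj.obj (op ((pj U.ι).obj (EtCoh.top U))),
      g.hom.app _ b' = Q.obj.map ((EtCore.topIsTerminal X).from _).op b := by
  let s' : Q.obj.obj (op (aff e A)) := Q.obj.map ((EtCore.topIsTerminal X).from (aff e A)).op b
  have ht : g.hom.app _ z = Q.obj.map (affMap e (Algebra.ofId A B)).op s' := by
    rw [hz]
    exact (map_from_top Q (affMap e (Algebra.ofId A B)) b).symm
  have := p.isPrime
  obtain ⟨r, hr, t'', ht''⟩ := exists_local_lift e B f g hinj hzero hex s' z ht p.asIdeal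
  let j : Spec (CommRingCat.of (Localization.Away r)) ⟶ X :=
    sm (A := A) (Localization.Away r) ≫ e
  have : IsOpenImmersion (sm (A := A) (Localization.Away r)) := by
    unfold sm
    infer_instance
  have : IsOpenImmersion j := inferInstance
  let U : X.Opens := j.opensRange
  have hpU : e p ∈ U := by
    have h1 : p ∈ Set.range (PrimeSpectrum.comap (algebraMap A (Localization.Away r))) := by
      rw [PrimeSpectrum.localization_away_comap_range (Localization.Away r) r]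
      exact hr
    obtain ⟨q, hq⟩ := h1
    refine ⟨q, ?_⟩
    rw [← hq]
    rfl
  let l : U.toScheme ⟶ Spec (CommRingCat.of (Localization.Away r)) :=
    IsOpenImmersion.lift j U.ι (by
      rw [Scheme.Opens.range_ι]
      rfl)
  have hl : l ≫ j = U.ι := IsOpenImmersion.lift_fac _ _ _
  let κ : (pj U.ι).obj (EtCoh.top U) ⟶ aff e (Localization.Away r) :=
    MorphismProperty.Over.homMk l (by
      change l ≫ j = 𝟙 _ ≫ U.ι
      rw [Category.id_comp]
      exact hl) trivial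
  refine ⟨U, hpU, I.obj.map κ.op t'', ?_⟩
  have hn := NatTrans.naturality_apply g.hom κ.op t''
  rw [hn, ht'']
  change Q.obj.map κ.op (Q.obj.map (affMap e (Algebra.ofId A (Localization.Away r))).op
    (Q.obj.map ((EtCore.topIsTerminal X).from (aff e A)).op b)) = _
  rw [map_from_top, map_from_top]

end OpenLift

/-- Sections of `I(G_m)/G_m` lift to the injective hull Zariski locally. -/
theorem exists_open_lift_injSC (b : (injSC (EtCoh.Gm X)).X₃.obj.obj (op (EtCoh.top X))) (x : X) :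
    ∃ U : X.Opens, x ∈ U ∧
      ∃ b' : (injSC (EtCoh.Gm X)).X₂.obj.obj (op ((pj U.ι).obj (EtCoh.top U))),
        (injSC (EtCoh.Gm X)).g.hom.app _ b' =
          (injSC (EtCoh.Gm X)).X₃.obj.map ((EtCore.topIsTerminal X).from _).op b := by
  have hS := injSC_shortExact (EtCoh.Gm X)
  have hepi : Epi (injSC (EtCoh.Gm X)).g := hS.epi_g
  have hmono : Mono (injSC (EtCoh.Gm X)).f := hS.mono_f
  have hls : Sheaf.IsLocallySurjective (injSC (EtCoh.Gm X)).g :=
    (Sheaf.isLocallySurjective_iff_epi' _ (injSC (EtCoh.Gm X)).g).2 inferInstance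
  have hmem := Presheaf.imageSieve_mem X.smallEtaleTopology (injSC (EtCoh.Gm X)).g.hom b
  rw [mem_smallEtaleTopology_iff] at hmem
  obtain ⟨V, φ, v, ⟨z, hz⟩, hv⟩ := hmem x
  have hE : Etale (V.hom : V.left ⟶ X) := V.prop
  have hφ : φ.left = V.hom := by
    have h1 : φ.left ≫ 𝟙 X = V.hom := MorphismProperty.Over.w φ
    exact (Category.comp_id _).symm.trans h1
  obtain ⟨X₁, hX₁, V₂, hV₂, hle, hx₁, hsurj⟩ := exists_affine_piece V v
  let fV : V.left ⟶ X := V.hom
  let φr : Γ(X, X₁) ⟶ Γ(V.left, V₂) := fV.appLE X₁ V₂ hle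
  let _ : Algebra Γ(X, X₁) Γ(V.left, V₂) := φr.hom.toAlgebra
  have hsq : Spec.map φr ≫ hX₁.fromSpec = hV₂.fromSpec ≫ fV :=
    hX₁.SpecMap_appLE_fromSpec fV hV₂ hle
  have hEt : Etale (Spec.map φr) := by
    have h2 : Etale (Spec.map φr ≫ hX₁.fromSpec) := by
      rw [hsq]
      infer_instance
    exact MorphismProperty.of_postcomp (W := @Etale) (W' := @Etale) _ hX₁.fromSpec
      inferInstance h2
  have hAE : Algebra.Etale Γ(X, X₁) Γ(V.left, V₂) := by
    have h3 := (HasRingHomProperty.Spec_iff (P := @Etale)).mp hEt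
    exact RingHom.etale_algebraMap.mp h3
  have hFF : Module.FaithfullyFlat Γ(X, X₁) Γ(V.left, V₂) := by
    apply Module.FaithfullyFlat.of_comap_surjective
    intro q
    have hy : hX₁.fromSpec q ∈ X₁ := by
      have : hX₁.fromSpec q ∈ Set.range hX₁.fromSpec := ⟨q, rfl⟩
      rwa [hX₁.range_fromSpec] at this
    obtain ⟨v', hv'V₂, hv'⟩ := hsurj _ hy
    have hv'r : v' ∈ Set.range hV₂.fromSpec := by
      rw [hV₂.range_fromSpec]
      exact hv'V₂
    obtain ⟨q', hq'⟩ := hv'r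
    refine ⟨q', ?_⟩
    apply hX₁.fromSpec.isOpenEmbedding.injective
    have h4 : hX₁.fromSpec ((Spec.map φr) q') = fV (hV₂.fromSpec q') := by
      have := congrArg (fun ψ : Spec Γ(V.left, V₂) ⟶ X => ψ q') hsq
      exact this
    rw [hq', hv'] at h4
    exact h4
  let e : Spec (CommRingCat.of Γ(X, X₁)) ⟶ X := hX₁.fromSpec
  have hOI : IsOpenImmersion e := inferInstanceAs (IsOpenImmersion hX₁.fromSpec)
  let κ : aff e Γ(V.left, V₂) ⟶ V :=
    MorphismProperty.Over.homMk hV₂.fromSpec hsq.symm trivial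
  let z' : (injSC (EtCoh.Gm X)).X₂.obj.obj (op (aff e Γ(V.left, V₂))) :=
    (injSC (EtCoh.Gm X)).X₂.obj.map κ.op z
  have hz' : (injSC (EtCoh.Gm X)).g.hom.app _ z' = (injSC (EtCoh.Gm X)).X₃.obj.map
      ((EtCore.topIsTerminal X).from (aff e Γ(V.left, V₂))).op b := by
    have hn := NatTrans.naturality_apply (injSC (EtCoh.Gm X)).g.hom κ.op z
    rw [hn]
    have hz2 : (injSC (EtCoh.Gm X)).g.hom.app (op V) z =
        (injSC (EtCoh.Gm X)).X₃.obj.map φ.op b := hz
    rw [hz2, ← ConcreteCategory.comp_apply, ← Functor.map_comp, ← op_comp]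
    have h5 : κ ≫ φ = (EtCore.topIsTerminal X).from (aff e Γ(V.left, V₂)) :=
      (EtCore.topIsTerminal X).hom_ext _ _
    rw [h5]
  obtain ⟨U, hpU, b', hb'⟩ := exists_open_lift e Γ(V.left, V₂) (injSC (EtCoh.Gm X)).f
    (injSC (EtCoh.Gm X)).g
    (fun T => Groth.Agent.Lib.Helper22.CechU.Site.injective_app_of_mono _ T)
    (fun T w => by
      have h6 := (injSC (EtCoh.Gm X)).zero
      exact congrArg (fun ψ : (injSC (EtCoh.Gm X)).X₁ ⟶ (injSC (EtCoh.Gm X)).X₃ =>
        ψ.hom.app (op T) w) h6)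
    (fun T y hy => Groth.Agent.Lib.Helper22.CechU.Site.sections_exact_of_left_exact
      hS.exact hmono T y hy)
    b z' hz' (hX₁.primeIdealOf ⟨fV v, hx₁⟩)
  refine ⟨U, ?_, b', hb'⟩
  have h7 : e (hX₁.primeIdealOf ⟨fV v, hx₁⟩) = fV v := hX₁.fromSpec_primeIdealOf ⟨fV v, hx₁⟩
  rw [h7] at hpU
  have h8 : fV v = x := by
    rw [← hv, hφ]
    rfl
  rwa [h8] at hpU

/-- **Hilbert 90**: every class in `H¹(X_ét, G_m)` dies on a Zariski open neighbourhood of any
given point. -/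
theorem exists_open_Hpull_eq_zero (c : EtCoh.H X (EtCoh.Gm X) 1) (x : X) :
    ∃ U : X.Opens, x ∈ U ∧ EtCore.Hpull U.ι (EtCoh.Gm X) 1 c = 0 := by
  have hS := injSC_shortExact (EtCoh.Gm X)
  have h0 : (c : Ext (EtCoh.const X ℤ) (injSC (EtCoh.Gm X)).X₁ 1).comp
      (Ext.mk₀ (injSC (EtCoh.Gm X)).f) (add_zero 1) = 0 := Ext.eq_zero_of_injective _
  obtain ⟨β, hβ⟩ := Ext.covariant_sequence_exact₁ _ hS c h0 (zero_add 1)
  let b := Sheaf.H.equiv₀ _ (EtCore.topIsTerminal X) β
  obtain ⟨U, hxU, b', hb'⟩ := exists_open_lift_injSC b x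
  refine ⟨U, hxU, ?_⟩
  have h9 := Hpull_δ_eq_zero_of_lift U.ι (injSC (EtCoh.Gm X)) hS β
    ((EtCore.topIsTerminal X).from _) b' hb'
  rw [hβ] at h9
  exact h9

end

end Groth.Agent.Lib.Helper22.H90
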