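import Groth.Agent.Lib.Helper22.H90.Zar

/-!
# `H¹(X_ét, G_m) = 0` iff `I(G_m) → I(G_m)/G_m` is surjective on global sections (helper22)
-/

set_option autoImplicit false
set_option linter.unusedSectionVars false

universe u

open CategoryTheory CategoryTheory.Limits Opposite AlgebraicGeometry Abelian

namespace Groth.Agent.Lib.Helper22.H90

open Groth.Agent.Lib.Helper22.EtLoc Groth.Agent.Lib.Helper22.DimShift
open Groth.Agent.Lib.Helper22.CechU.Etale Groth.Agent.Lib.Helper22.EtAcycLib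

noncomputable section

variable {X : Scheme.{u}}

/-- The whole space, as an object of the small étale site, is terminal. -/
def isTerminalOE (X : Scheme.{u}) : IsTerminal (oE (⊤ : X.Opens)) :=
  IsTerminal.ofUniqueHom (fun T => toOE T ⊤ fun _ _ => trivial) fun _ _ => Subsingleton.elim _ _

/-- A first cohomology group vanishes iff the map from the injective hull to the quotient is
surjective on global sections. -/
theorem subsingleton_H1_iff_surjective (F : EtCoh.Ab X) {T : X.Etale} (hT : IsTerminal T) :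
    Subsingleton (EtCoh.H X F 1) ↔ Function.Surjective ((injSC F).g.hom.app (op T)) := by
  have hS := injSC_shortExact F
  constructor
  · intro hsub t
    let x₃ : EtCoh.H X (injSC F).X₃ 0 := (Sheaf.H.equiv₀ _ hT).symm t
    have h0 : (x₃ : Ext (EtCoh.const X ℤ) (injSC F).X₃ 0).comp hS.extClass (zero_add 1) = 0 :=
      Subsingleton.elim (α := EtCoh.H X F 1) _ _
    obtain ⟨x₂, hx₂⟩ := Ext.covariant_sequence_exact₃ _ hS x₃ (zero_add 1) h0
    refine ⟨Sheaf.H.equiv₀ _ hT x₂, ?_⟩
    have h := Sheaf.H.equiv₀_naturality (hT := hT) (injSC F).g x₂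
    rw [h, Sheaf.H.map_apply, hx₂]
    exact AddEquiv.apply_symm_apply _ t
  · intro hsurj
    refine subsingleton_of_forall_eq 0 fun c => ?_
    have h0 : (c : Ext (EtCoh.const X ℤ) (injSC F).X₁ 1).comp
        (Ext.mk₀ (injSC F).f) (add_zero 1) = 0 := Ext.eq_zero_of_injective _
    obtain ⟨β, hβ⟩ := Ext.covariant_sequence_exact₁ _ hS c h0 (zero_add 1)
    obtain ⟨y, hy⟩ := hsurj (Sheaf.H.equiv₀ _ hT β)
    let γ : EtCoh.H X (injSC F).X₂ 0 := (Sheaf.H.equiv₀ _ hT).symm y
    have h1 : Sheaf.H.map (injSC F).g 0 γ = β := by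
      apply (Sheaf.H.equiv₀ _ hT).injective
      rw [← Sheaf.H.equiv₀_naturality]
      change (injSC F).g.hom.app (op T) ((Sheaf.H.equiv₀ _ hT) ((Sheaf.H.equiv₀ _ hT).symm y)) = _
      rw [AddEquiv.apply_symm_apply, hy]
    rw [Sheaf.H.map_apply] at h1
    rw [← hβ, ← h1, Ext.comp_assoc_of_second_deg_zero, hS.comp_extClass, Ext.comp_zero]

/-- The connecting map `Q(T) → H¹(F)` for the injective-hull sequence `0 → F → I → Q → 0` and a
terminal object `T`. -/
def delta (F : EtCoh.Ab X) {T : X.Etale} (hT : IsTerminal T) :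
    (injSC F).X₃.obj.obj (op T) →+ EtCoh.H X F 1 :=
  ((injSC_shortExact F).extClass.postcomp (EtCoh.const X ℤ) (zero_add 1)).comp
    (Sheaf.H.equiv₀ (injSC F).X₃ hT).symm.toAddMonoidHom

lemma delta_apply (F : EtCoh.Ab X) {T : X.Etale} (hT : IsTerminal T)
    (b : (injSC F).X₃.obj.obj (op T)) :
    delta F hT b = (((Sheaf.H.equiv₀ (injSC F).X₃ hT).symm b :
      Ext (EtCoh.const X ℤ) (injSC F).X₃ 0)).comp (injSC_shortExact F).extClass (zero_add 1) :=
  rfl

lemma delta_surjective (F : EtCoh.Ab X) {T : X.Etale} (hT : IsTerminal T) :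
    Function.Surjective (delta F hT) := by
  intro c
  have hS := injSC_shortExact F
  have h0 : (c : Ext (EtCoh.const X ℤ) (injSC F).X₁ 1).comp
      (Ext.mk₀ (injSC F).f) (add_zero 1) = 0 := Ext.eq_zero_of_injective _
  obtain ⟨β, hβ⟩ := Ext.covariant_sequence_exact₁ _ hS c h0 (zero_add 1)
  refine ⟨Sheaf.H.equiv₀ _ hT β, ?_⟩
  rw [delta_apply, AddEquiv.symm_apply_apply]
  exact hβ

lemma delta_eq_zero_iff (F : EtCoh.Ab X) {T : X.Etale} (hT : IsTerminal T)
    (b : (injSC F).X₃.obj.obj (op T)) :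
    delta F hT b = 0 ↔ ∃ y, (injSC F).g.hom.app (op T) y = b := by
  have hS := injSC_shortExact F
  constructor
  · intro h0
    rw [delta_apply] at h0
    obtain ⟨x₂, hx₂⟩ := Ext.covariant_sequence_exact₃ _ hS _ (zero_add 1) h0
    refine ⟨Sheaf.H.equiv₀ _ hT x₂, ?_⟩
    have h := Sheaf.H.equiv₀_naturality (hT := hT) (injSC F).g x₂
    rw [h, Sheaf.H.map_apply, hx₂]
    exact AddEquiv.apply_symm_apply _ b
  · rintro ⟨y, rfl⟩
    let γ : EtCoh.H X (injSC F).X₂ 0 := (Sheaf.H.equiv₀ _ hT).symm y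
    have h1 : Sheaf.H.map (injSC F).g 0 γ =
        (Sheaf.H.equiv₀ _ hT).symm ((injSC F).g.hom.app (op T) y) :=
      Sheaf.H.equiv₀_symm_naturality (hT := hT) (injSC F).g y
    rw [Sheaf.H.map_apply] at h1
    rw [delta_apply, ← h1, Ext.comp_assoc_of_second_deg_zero, hS.comp_extClass, Ext.comp_zero]

end

end Groth.Agent.Lib.Helper22.H90
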