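import Groth.Agent.Lib.Helper22.H90.PicZ
import Groth.Agent.Lib.Helper29.Cocycle
import Groth.Agent.Lib.Helper29.Punct3

/-!
# Trivialisation data relating an invertible module to a global section of `Q = I/G_m` (helper22)
-/

set_option autoImplicit false
set_option linter.unusedSectionVars false

universe u

open CategoryTheory CategoryTheory.Limits Opposite AlgebraicGeometry

namespace Groth.Agent.Lib.Helper22.H90

open Groth.Agent.Lib.Helper22.CechU.Etale
open Groth.Agent.Lib.Helper29.QCoh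

noncomputable section

variable {X : Scheme.{u}}

lemma isUnit_of_isTriv_smul {L : X.Modules} {W : X.Opens} {m : Γ(L, W)} (a : Γ(X, W))
    (h1 : IsTriv L W m) (h2 : IsTriv L W (a • m)) : IsUnit a := by
  obtain ⟨b, hb⟩ := h2.exists_eq_smul m
  have h3 : (1 : Γ(X, W)) • m = (b * a) • m := by
    rw [one_smul, mul_smul]
    exact hb
  exact IsUnit.of_mul_eq_one_right _ (h1.smul_left_cancel h3).symm

lemma IsTriv.of_iso {L L' : X.Modules} (φ : L ≅ L') {U : X.Opens} {e : Γ(L, U)}
    (h : IsTriv L U e) : IsTriv L' U (φ.hom.app U e) := by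
  intro W hW
  have hb := app_bijective_of_isIso φ.hom W
  have h1 : (fun r : Γ(X, W) => r • res L' hW (φ.hom.app U e)) =
      φ.hom.app W ∘ (fun r : Γ(X, W) => r • res L hW e) := by
    funext r
    change _ = φ.hom.app W (r • res L hW e)
    rw [Scheme.Modules.Hom.app_smul, app_res]
  rw [h1]
  exact hb.comp (h W hW)

section

variable {I Q : EtCoh.Ab X} (f : EtCoh.Gm X ⟶ I) (g : I ⟶ Q)

/-- Trivialisations of `L` on a pointed cover `U`, with transition units `γ`, together with sections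
`t` of `I` lifting `b` locally whose differences are the images of the transition units. -/
structure AdmData (L : X.Modules) (b : Q.obj.obj (op (oE (⊤ : X.Opens)))) (U : X → X.Opens) where
  e : ∀ x, Γ(L, U x)
  triv : ∀ x, IsTriv L (U x) (e x)
  t : ∀ x, I.obj.obj (op (oE (U x)))
  gt : ∀ x, g.hom.app _ (t x) = Q.obj.map (oEmap (le_top : U x ≤ ⊤)).op b
  γ : ∀ x y, (Γ(X, U x ⊓ U y))ˣ
  hγe : ∀ x y, res L (inf_le_right : U x ⊓ U y ≤ U y) (e y) =
    (γ x y : Γ(X, U x ⊓ U y)) • res L (inf_le_left : U x ⊓ U y ≤ U x) (e x)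
  hγt : ∀ x y, fz f (U x ⊓ U y) (γ x y) =
    I.obj.map (oEmap (inf_le_right : U x ⊓ U y ≤ U y)).op (t y) -
      I.obj.map (oEmap (inf_le_left : U x ⊓ U y ≤ U x)).op (t x)

variable {f g}

/-- Restriction of the data to a finer pointed cover. -/
def AdmData.restrict {L : X.Modules} {b : Q.obj.obj (op (oE (⊤ : X.Opens)))} {U : X → X.Opens}
    (D : AdmData f g L b U) (V : X → X.Opens) (hVU : ∀ x, V x ≤ U x) : AdmData f g L b V where
  e x := res L (hVU x) (D.e x)
  triv x := (D.triv x).restrict (hVU x)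
  t x := I.obj.map (oEmap (hVU x)).op (D.t x)
  gt x := by rw [g_map, D.gt, map_oEmap_comp]
  γ x y := ures (inf_le_inf (hVU x) (hVU y)) (D.γ x y)
  hγe x y := by
    have h := congrArg (res L (inf_le_inf (hVU x) (hVU y))) (D.hγe x y)
    rw [res_smul', res_res, res_res] at h
    rw [res_res, res_res]
    exact h
  hγt x y := by
    rw [← map_fz, D.hγt, map_sub, map_oEmap_comp, map_oEmap_comp, map_oEmap_comp,
      map_oEmap_comp]

/-- Transport of the data along an isomorphism of modules. -/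
def AdmData.ofIso {L L' : X.Modules} (φ : L ≅ L') {b : Q.obj.obj (op (oE (⊤ : X.Opens)))}
    {U : X → X.Opens} (D : AdmData f g L b U) : AdmData f g L' b U where
  e x := φ.hom.app (U x) (D.e x)
  triv x := IsTriv.of_iso φ (D.triv x)
  t := D.t
  gt := D.gt
  γ := D.γ
  hγe x y := by
    have h := congrArg (φ.hom.app (U x ⊓ U y)) (D.hγe x y)
    rw [Scheme.Modules.Hom.app_smul, app_res, app_res] at h
    exact h
  hγt := D.hγt

/-- Tensor product of the data. -/
def AdmData.tensor {L L' : X.Modules} [L.IsQuasicoherent] [L'.IsQuasicoherent]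
    {b b' : Q.obj.obj (op (oE (⊤ : X.Opens)))}
    {U : X → X.Opens} (D : AdmData f g L b U) (D' : AdmData f g L' b' U) :
    AdmData f g (CohB1.tensorMod L L') (b + b') U where
  e x := tmulSec L L' (D.e x) (D'.e x)
  triv x := (D.triv x).tensor (D'.triv x)
  t x := D.t x + D'.t x
  gt x := by rw [map_add, map_add, D.gt, D'.gt]
  γ x y := D.γ x y * D'.γ x y
  hγe x y := by
    rw [res_tmulSec, res_tmulSec, D.hγe, D'.hγe, tmulSec_smul_left, tmulSec_smul_right,
      smul_smul, Units.val_mul, mul_comm]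
  hγt x y := by
    rw [fz_mul, D.hγt, D'.hγt, map_add, map_add]
    abel

section Main

variable (hinj : ∀ T : X.Etale, Function.Injective (f.hom.app (op T)))
  (hzero : ∀ (T : X.Etale) (z : (EtCoh.Gm X).obj.obj (op T)),
    g.hom.app (op T) (f.hom.app (op T) z) = 0)
  (hex : ∀ (T : X.Etale) (y : I.obj.obj (op T)), g.hom.app (op T) y = 0 →
    ∃ z, f.hom.app (op T) z = y)

include hinj hzero in
/-- Two admissible sections for the same module on the same cover differ by the image of a global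
section of `I`. -/
theorem AdmData.exists_diff {L : X.Modules} {b b' : Q.obj.obj (op (oE (⊤ : X.Opens)))}
    {U : X → X.Opens} (hxU : ∀ x, x ∈ U x) (D : AdmData f g L b U) (D' : AdmData f g L b' U) :
    ∃ s : I.obj.obj (op (oE (⊤ : X.Opens))), g.hom.app _ s = b' - b := by
  have hu : ∀ x, ∃ u : (Γ(X, U x))ˣ, D'.e x = (u : Γ(X, U x)) • D.e x := by
    intro x
    obtain ⟨a, ha⟩ := (D.triv x).exists_eq_smul (D'.e x)
    have hua : IsUnit a := isUnit_of_isTriv_smul a (D.triv x) (ha ▸ D'.triv x)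
    exact ⟨hua.unit, by rw [IsUnit.unit_spec]; exact ha⟩
  choose u hu using hu
  have key : ∀ x y, D'.γ x y * ures (inf_le_left : U x ⊓ U y ≤ U x) (u x) =
      ures (inf_le_right : U x ⊓ U y ≤ U y) (u y) * D.γ x y := by
    intro x y
    apply Units.ext
    apply ((D.triv x).restrict (inf_le_left : U x ⊓ U y ≤ U x)).smul_left_cancel
    have h1 := D'.hγe x y
    rw [hu x, hu y, res_smul', res_smul', D.hγe x y, smul_smul, smul_smul] at h1
    exact h1.symm
  let s : ∀ x, I.obj.obj (op (oE (U x))) := fun x => D'.t x - D.t x - fz f (U x) (u x)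
  have hcompat : ∀ x y, I.obj.map (oEmap (inf_le_left : U x ⊓ U y ≤ U x)).op (s x) =
      I.obj.map (oEmap (inf_le_right : U x ⊓ U y ≤ U y)).op (s y) := by
    intro x y
    have h1 := congrArg (fz f (U x ⊓ U y)) (key x y)
    rw [fz_mul, fz_mul, D.hγt, D'.hγt, ← map_fz, ← map_fz, ← sub_eq_zero] at h1
    change I.obj.map _ (_ - _ - _) = I.obj.map _ (_ - _ - _)
    rw [map_sub, map_sub, map_sub, map_sub, ← sub_eq_zero]
    refine Eq.trans ?_ (congrArg Neg.neg h1 |>.trans neg_zero)
    abel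
  obtain ⟨σ, hσ⟩ := zglue U ⊤ (fun _ => le_top) (fun x _ => ⟨x, hxU x⟩) I s hcompat
  refine ⟨σ, ?_⟩
  refine zsep U ⊤ (fun _ => le_top) (fun x _ => ⟨x, hxU x⟩) Q _ _ fun x => ?_
  rw [← g_map, hσ]
  change g.hom.app _ (_ - _ - _) = _
  rw [map_sub, map_sub, g_fz f g hzero, sub_zero, D.gt, D'.gt, map_sub]

include hinj hex in
/-- If the section lifts globally to `I`, the module is trivial. -/
theorem AdmData.nonempty_iso_unit {L : X.Modules} {b : Q.obj.obj (op (oE (⊤ : X.Opens)))}
    {U : X → X.Opens} (hxU : ∀ x, x ∈ U x) (D : AdmData f g L b U)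
    (s : I.obj.obj (op (oE (⊤ : X.Opens)))) (hs : g.hom.app _ s = b) :
    Nonempty (L ≅ Coh.structureModule X) := by
  have hker : ∀ x, g.hom.app _ (D.t x - I.obj.map (oEmap (le_top : U x ≤ ⊤)).op s) = 0 := by
    intro x
    rw [map_sub, g_map, hs, D.gt, sub_self]
  choose h hh using fun x => exists_fz f g hex (U x) _ (hker x)
  have key : ∀ x y, D.γ x y * ures (inf_le_left : U x ⊓ U y ≤ U x) (h x) =
      ures (inf_le_right : U x ⊓ U y ≤ U y) (h y) := by
    intro x y
    apply fz_injective f hinj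
    rw [fz_mul, ← map_fz, ← map_fz, hh, hh, D.hγt, map_sub, map_sub, map_oEmap_comp,
      map_oEmap_comp]
    abel
  obtain ⟨φ, -⟩ := exists_iso_of_cocycle (M := L) (N := unitM X) (U := U) (m := D.e)
    (n := fun i => toUnit ((h i : Γ(X, U i)))) (fun x => ⟨x, hxU x⟩) D.triv
    (fun i => Groth.Agent.Lib.Helper29.Punct.isTriv_toUnit_of_isUnit _ (Units.isUnit _))
    (fun i j => ⟨(↑(D.γ i j)⁻¹ : Γ(X, U i ⊓ U j)), by
      rw [D.hγe i j, smul_smul, Units.inv_mul, one_smul], by
      have h2 := congrArg Units.val (key i j)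
      change rres X (inf_le_left : U i ⊓ U j ≤ U i) (h i : Γ(X, U i)) =
        (↑(D.γ i j)⁻¹ : Γ(X, U i ⊓ U j)) * rres X (inf_le_right : U i ⊓ U j ≤ U j)
          (h j : Γ(X, U j))
      change (D.γ i j : Γ(X, U i ⊓ U j)) * rres X _ (h i : Γ(X, U i)) =
        rres X _ (h j : Γ(X, U j)) at h2
      rw [← h2, ← mul_assoc, Units.inv_mul, one_mul]⟩)
  exact ⟨φ⟩

include hinj hex in
/-- Every global section of `Q` which lifts Zariski locally is admissible for some invertible
module. -/
theorem exists_admData_of_section (b : Q.obj.obj (op (oE (⊤ : X.Opens))))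
    (hloc : ∀ x : X, ∃ U : X.Opens, x ∈ U ∧
      ∃ τ : I.obj.obj (op (oE U)), g.hom.app _ τ = Q.obj.map (oEmap le_top).op b) :
    ∃ (L : X.Modules) (_ : PicF.IsInvertible L) (U : X → X.Opens) (_ : ∀ x, x ∈ U x),
      Nonempty (AdmData f g L b U) := by
  choose U hxU τ hτ using hloc
  let d : ∀ i j, I.obj.obj (op (oE (U i ⊓ U j))) := fun i j =>
    I.obj.map (oEmap inf_le_right).op (τ j) - I.obj.map (oEmap inf_le_left).op (τ i)
  have hd_res : ∀ (i j : X) (W : X.Opens) (hi : W ≤ U i) (hj : W ≤ U j),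
      I.obj.map (oEmap (le_inf hi hj)).op (d i j) =
        I.obj.map (oEmap hj).op (τ j) - I.obj.map (oEmap hi).op (τ i) := by
    intro i j W hi hj
    change I.obj.map (oEmap (le_inf hi hj)).op (_ - _) = _
    rw [map_sub, map_oEmap_comp, map_oEmap_comp]
  have hgd : ∀ i j, g.hom.app _ (d i j) = 0 := by
    intro i j
    change g.hom.app _ (_ - _) = 0
    rw [map_sub, g_map, g_map, hτ, hτ, map_oEmap_comp, map_oEmap_comp, sub_self]
  choose γ hγ using fun i j => exists_fz f g hex (U i ⊓ U j) (d i j) (hgd i j)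
  let c : Glue.Cocycle U :=
    { g := fun i j => (γ i j : Γ(X, U i ⊓ U j))
      one := fun i => by
        have h1 : γ i i = 1 := by
          apply fz_injective f hinj
          rw [hγ, fz_one]
          exact sub_self _
        rw [h1]
        rfl
      mul := fun i j k W hi hj hk => by
        have h1 : ures (le_inf hi hj) (γ i j) * ures (le_inf hj hk) (γ j k) =
            ures (le_inf hi hk) (γ i k) := by
          apply fz_injective f hinj
          rw [fz_mul, ← map_fz, ← map_fz, ← map_fz, hγ, hγ, hγ, hd_res i j W hi hj,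
            hd_res j k W hj hk, hd_res i k W hi hk]
          abel
        exact congrArg Units.val h1 }
  obtain ⟨L, e, hL, hT, htr⟩ := Glue.exists_invertible_of_cocycle (fun x => ⟨x, hxU x⟩) c
  exact ⟨L, hL, U, hxU, ⟨{ e := e, triv := hT, t := τ, gt := hτ, γ := γ, hγe := htr, hγt := hγ }⟩⟩

include hzero in
/-- Every invertible module admits an admissible section, provided `I` has vanishing Čech `H¹`
on Zariski covers. -/
theorem exists_admData_of_invertible
    (hacyc : ∀ (U : X → X.Opens) (c : ∀ i j, I.obj.obj (op (oE (U i ⊓ U j)))),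
      (∀ (i j k : X) (W : X.Opens) (hi : W ≤ U i) (hj : W ≤ U j) (hk : W ≤ U k),
        I.obj.map (oEmap (le_inf hi hj)).op (c i j) + I.obj.map (oEmap (le_inf hj hk)).op (c j k) =
          I.obj.map (oEmap (le_inf hi hk)).op (c i k)) →
      ∃ t : ∀ i, I.obj.obj (op (oE (U i))), ∀ i j, c i j =
        I.obj.map (oEmap (inf_le_right : U i ⊓ U j ≤ U j)).op (t j) -
          I.obj.map (oEmap (inf_le_left : U i ⊓ U j ≤ U i)).op (t i))
    (L : X.Modules) (hL : PicF.IsInvertible L) :
    ∃ (b : Q.obj.obj (op (oE (⊤ : X.Opens)))) (U : X → X.Opens) (_ : ∀ x, x ∈ U x),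
      Nonempty (AdmData f g L b U) := by
  choose U e hxU hT using fun x => exists_isTriv hL x
  have hγ : ∀ i j, ∃ γ : (Γ(X, U i ⊓ U j))ˣ,
      res L (inf_le_right : U i ⊓ U j ≤ U j) (e j) =
        (γ : Γ(X, U i ⊓ U j)) • res L (inf_le_left : U i ⊓ U j ≤ U i) (e i) := by
    intro i j
    obtain ⟨a, ha⟩ := ((hT i).restrict (inf_le_left : U i ⊓ U j ≤ U i)).exists_eq_smul
      (res L (inf_le_right : U i ⊓ U j ≤ U j) (e j))
    have hua : IsUnit a := isUnit_of_isTriv_smul a ((hT i).restrict inf_le_left)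
      (ha ▸ (hT j).restrict inf_le_right)
    exact ⟨hua.unit, by rw [IsUnit.unit_spec]; exact ha⟩
  choose γ hγ using hγ
  have key : ∀ (i j : X) (W : X.Opens) (hi : W ≤ U i) (hj : W ≤ U j),
      res L hj (e j) = (ures (le_inf hi hj) (γ i j) : Γ(X, W)) • res L hi (e i) := by
    intro i j W hi hj
    have h1 := congrArg (res L (le_inf hi hj)) (hγ i j)
    rw [res_smul', res_res, res_res] at h1
    exact h1
  obtain ⟨t, ht⟩ := hacyc U (fun i j => fz f (U i ⊓ U j) (γ i j)) (by
    intro i j k W hi hj hk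
    rw [map_fz, map_fz, map_fz, ← fz_mul]
    congr 1
    apply Units.ext
    apply ((hT i).restrict hi).smul_left_cancel
    rw [Units.val_mul, mul_comm, mul_smul, ← key i j W hi hj, ← key j k W hj hk,
      ← key i k W hi hk])
  have hcompat : ∀ i j, Q.obj.map (oEmap (inf_le_left : U i ⊓ U j ≤ U i)).op
      (g.hom.app _ (t i)) = Q.obj.map (oEmap (inf_le_right : U i ⊓ U j ≤ U j)).op
      (g.hom.app _ (t j)) := by
    intro i j
    rw [← g_map, ← g_map]
    have h1 := congrArg (g.hom.app (op (oE (U i ⊓ U j)))) (ht i j)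
    rw [g_fz f g hzero, map_sub] at h1
    exact (sub_eq_zero.1 h1.symm).symm
  obtain ⟨b, hb⟩ := zglue U ⊤ (fun _ => le_top) (fun x _ => ⟨x, hxU x⟩) Q
    (fun i => g.hom.app _ (t i)) hcompat
  have hgt : ∀ x, g.hom.app _ (t x) = Q.obj.map (oEmap (le_top : U x ≤ ⊤)).op b :=
    fun x => (hb x).symm
  exact ⟨b, U, hxU, ⟨{ e := e, triv := hT, t := t, gt := hgt, γ := γ, hγe := hγ, hγt := ht }⟩⟩

end Main

end

end

end Groth.Agent.Lib.Helper22.H90
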