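import Groth.Agent.Lib.Helper22.H90.Zar
import Groth.Agent.Lib.Helper22.ColimCohU.Cartan

/-!
# Čech `H¹` of an injective étale sheaf on a Zariski cover vanishes, in explicit terms (helper22)
-/

set_option autoImplicit false
set_option linter.unusedSectionVars false

universe u

open CategoryTheory CategoryTheory.Limits Opposite AlgebraicGeometry

namespace Groth.Agent.Lib.Helper22.H90

open Groth.Agent.Lib.Helper22.CechU Groth.Agent.Lib.Helper22.CechU.Site
open Groth.Agent.Lib.Helper22.CechU.Etale Groth.Agent.Lib.Helper22.ColimCohU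

noncomputable section

variable {X : Scheme.{u}} {ι : Type (u + 1)} (V : ι → X.Opens)

/-- The opens of a family as objects over the terminal object `X`. -/
abbrev zY (i : ι) : Over (oE (⊤ : X.Opens)) := Over.mk (oEmap (le_top : V i ≤ ⊤))

variable (I : EtCoh.Ab X) (c : ∀ i j, I.obj.obj (op (oE (V i ⊓ V j))))

/-- The Čech `1`-cochain attached to a family of sections on pairwise intersections. -/
def zCochain : (CK (zY V) (rP I.obj)).X 1 :=
  mk (zY V) (rP I.obj) fun σ =>
    I.obj.map (toInf (U := V (σ 0)) (V := V (σ 1)) (Pi.π (zY V ∘ σ) 0).left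
      (Pi.π (zY V ∘ σ) 1).left).op (c (σ 0) (σ 1))

lemma ev_zCochain {z : Over (oE (⊤ : X.Opens))} (t : T (zY V) 1 z) :
    ev (zY V) (rP I.obj) (zCochain V I c) t =
      I.obj.map (toInf (U := V (t 0).1) (V := V (t 1).1) (t 0).2.left (t 1).2.left).op
        (c (t 0).1 (t 1).1) := by
  unfold ev zCochain
  rw [proj_mk]
  change I.obj.map (toProd (zY V) t).left.op (I.obj.map _ (c (t 0).1 (t 1).1)) = _
  rw [← ConcreteCategory.comp_apply, ← Functor.map_comp, ← op_comp]
  exact congrArg (fun m => I.obj.map (Quiver.Hom.op m) (c (t 0).1 (t 1).1))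
    (Subsingleton.elim _ _)

section Cocycle

variable (σ : Fin 3 → ι)

/-- The triple intersection. -/
abbrev zW : X.Opens := V (σ 0) ⊓ V (σ 1) ⊓ V (σ 2)

lemma zW_le (a : Fin 3) : zW V σ ≤ V (σ a) := by
  fin_cases a
  · exact inf_le_left.trans inf_le_left
  · exact inf_le_left.trans inf_le_right
  · exact inf_le_right

/-- The map from the triple product to the triple intersection. -/
def zw : (Uσ (zY V) σ).left ⟶ oE (zW V σ) :=
  toInf (toInf (U := V (σ 0)) (V := V (σ 1)) (Pi.π (zY V ∘ σ) 0).left (Pi.π (zY V ∘ σ) 1).left)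
    (V := V (σ 2)) (Pi.π (zY V ∘ σ) 2).left

lemma ev_zCochain_face (k a b : Fin 3) (ha : k.succAbove 0 = a) (hb : k.succAbove 1 = b) :
    ev (zY V) (rP I.obj) (zCochain V I c) (can (zY V) σ ∘ k.succAbove) =
      I.obj.map (zw V σ).op (I.obj.map (oEmap (le_inf (zW_le V σ a) (zW_le V σ b))).op
        (c (σ a) (σ b))) := by
  subst ha hb
  rw [ev_zCochain, ← ConcreteCategory.comp_apply, ← Functor.map_comp, ← op_comp]
  exact congrArg (fun m => I.obj.map (Quiver.Hom.op m)
    (c (σ (k.succAbove 0)) (σ (k.succAbove 1)))) (Subsingleton.elim _ _)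

end Cocycle

variable (hc : ∀ (i j k : ι) (W : X.Opens) (hi : W ≤ V i) (hj : W ≤ V j) (hk : W ≤ V k),
  I.obj.map (oEmap (le_inf hi hj)).op (c i j) + I.obj.map (oEmap (le_inf hj hk)).op (c j k) =
    I.obj.map (oEmap (le_inf hi hk)).op (c i k))

include hc in
lemma d_zCochain : (CK (zY V) (rP I.obj)).d 1 2 (zCochain V I c) = 0 := by
  apply ext_proj
  intro σ
  rw [← ev_can, ← ev_can, ev_zero, ev_d, Fin.sum_univ_three,
    ev_zCochain_face V I c σ 0 1 2 rfl rfl, ev_zCochain_face V I c σ 1 0 2 rfl rfl,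
    ev_zCochain_face V I c σ 2 0 1 rfl rfl,
    ← hc (σ 0) (σ 1) (σ 2) (zW V σ) (zW_le V σ 0) (zW_le V σ 1) (zW_le V σ 2), map_add]
  simp
  abel

include hc in
/-- Čech `H¹` of an injective étale sheaf with respect to a family of opens vanishes. -/
theorem exists_cech_coboundary [Injective I] :
    ∃ t : ∀ i, I.obj.obj (op (oE (V i))), ∀ i j, c i j =
      I.obj.map (oEmap (inf_le_right : V i ⊓ V j ≤ V j)).op (t j) -
        I.obj.map (oEmap (inf_le_left : V i ⊓ V j ≤ V i)).op (t i) := by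
  obtain ⟨y, hy⟩ := acyc_of_injective_sheaf I (zY V) 0 (zCochain V I c) (d_zCochain V I c hc)
  refine ⟨fun i => ev (zY V) (rP I.obj) y (sing (zY V) ⟨i, 𝟙 (zY V i)⟩), fun i j => ?_⟩
  let z : Over (oE (⊤ : X.Opens)) := Over.mk (oEmap (le_top : V i ⊓ V j ≤ ⊤))
  let Gi : z ⟶ zY V i := Over.homMk (oEmap inf_le_left) (Subsingleton.elim _ _)
  let Gj : z ⟶ zY V j := Over.homMk (oEmap inf_le_right) (Subsingleton.elim _ _)
  let t : T (zY V) 1 z := ![⟨i, Gi⟩, ⟨j, Gj⟩]
  have h1 := ev_d_zero (zY V) (rP I.obj) y t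
  rw [hy, ev_zCochain] at h1
  have h2 : ev (zY V) (rP I.obj) y (sing (zY V) (t 0)) =
      I.obj.map (oEmap (inf_le_left : V i ⊓ V j ≤ V i)).op
        (ev (zY V) (rP I.obj) y (sing (zY V) ⟨i, 𝟙 (zY V i)⟩)) := by
    change ev (zY V) (rP I.obj) y (sing (zY V) (⟨i, Gi⟩ : SV (zY V) z)) = _
    rw [sing_eq_pre_sing, ev_pre]
    rfl
  have h3 : ev (zY V) (rP I.obj) y (sing (zY V) (t 1)) =
      I.obj.map (oEmap (inf_le_right : V i ⊓ V j ≤ V j)).op
        (ev (zY V) (rP I.obj) y (sing (zY V) ⟨j, 𝟙 (zY V j)⟩)) := by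
    change ev (zY V) (rP I.obj) y (sing (zY V) (⟨j, Gj⟩ : SV (zY V) z)) = _
    rw [sing_eq_pre_sing, ev_pre]
    rfl
  rw [h2, h3] at h1
  refine Eq.trans ?_ h1
  have h4 : toInf (U := V i) (V := V j) (t 0).2.left (t 1).2.left = 𝟙 (oE (V i ⊓ V j)) :=
    Subsingleton.elim _ _
  change c i j = I.obj.map (toInf (U := V i) (V := V j) (t 0).2.left (t 1).2.left).op (c i j)
  rw [h4]
  change c i j = I.obj.map (𝟙 (op (oE (V i ⊓ V j)))) (c i j)
  rw [I.obj.map_id]
  rfl

end

end Groth.Agent.Lib.Helper22.H90
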