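import Groth.Agent.Lib.Helper22.H90.PicZ
import Groth.Agent.Lib.Helper22.H90.ZarCech

/-!
# `H¹(X_ét, G_m) = 0` iff Zariski `1`-cocycles of units are coboundaries (helper22)
-/

set_option autoImplicit false
set_option linter.unusedSectionVars false

universe u

open CategoryTheory CategoryTheory.Limits Opposite AlgebraicGeometry Abelian

namespace Groth.Agent.Lib.Helper22.H90

open Groth.Agent.Lib.Helper22.EtLoc Groth.Agent.Lib.Helper22.DimShift
open Groth.Agent.Lib.Helper22.CechU.Etale Groth.Agent.Lib.Helper22.EtAcycLib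
open Groth.Agent.Lib.Helper29.QCoh

noncomputable section

variable {X : Scheme.{u}}

/-- Sections of `I(G_m)/G_m` over `X` lift to the injective hull Zariski locally (in terms of
opens as objects of the étale site). -/
lemma exists_open_lift_oE (b : (injSC (EtCoh.Gm X)).X₃.obj.obj (op (oE (⊤ : X.Opens)))) (x : X) :
    ∃ U : X.Opens, x ∈ U ∧ ∃ τ : (injSC (EtCoh.Gm X)).X₂.obj.obj (op (oE U)),
      (injSC (EtCoh.Gm X)).g.hom.app _ τ =
        (injSC (EtCoh.Gm X)).X₃.obj.map (oEmap le_top).op b := by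
  let m : EtCoh.top X ⟶ oE (⊤ : X.Opens) := toOE (EtCoh.top X) ⊤ fun _ _ => trivial
  obtain ⟨U, hxU, b', hb'⟩ := exists_open_lift_injSC
    ((injSC (EtCoh.Gm X)).X₃.obj.map m.op b) x
  let κ : oE U ⟶ (pj U.ι).obj (EtCoh.top U) :=
    MorphismProperty.Over.homMk (𝟙 _) (by
      change 𝟙 _ ≫ (𝟙 _ ≫ U.ι) = U.ι
      rw [Category.id_comp, Category.id_comp]) trivial
  refine ⟨U, hxU, (injSC (EtCoh.Gm X)).X₂.obj.map κ.op b', ?_⟩
  have hn := NatTrans.naturality_apply (injSC (EtCoh.Gm X)).g.hom κ.op b'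
  rw [hn, hb', ← ConcreteCategory.comp_apply, ← ConcreteCategory.comp_apply,
    ← Functor.map_comp, ← Functor.map_comp, ← op_comp, ← op_comp]
  have h : (κ ≫ (EtCore.topIsTerminal X).from _) ≫ m = oEmap le_top := Subsingleton.elim _ _
  rw [h]

/-- `H¹(X_ét, G_m)` vanishes iff every Zariski `1`-cocycle of units is a coboundary. -/
theorem subsingleton_H1_Gm_iff_zarH1Trivial (X : Scheme.{u}) :
    Subsingleton (EtCoh.H X (EtCoh.Gm X) 1) ↔ ZarH1Trivial X := by
  have hS := injSC_shortExact (EtCoh.Gm X)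
  have hmono : Mono (injSC (EtCoh.Gm X)).f := hS.mono_f
  have hinj : ∀ T : X.Etale, Function.Injective ((injSC (EtCoh.Gm X)).f.hom.app (op T)) :=
    fun T => Groth.Agent.Lib.Helper22.CechU.Site.injective_app_of_mono _ T
  have hzero : ∀ (T : X.Etale) (z : (EtCoh.Gm X).obj.obj (op T)),
      (injSC (EtCoh.Gm X)).g.hom.app (op T) ((injSC (EtCoh.Gm X)).f.hom.app (op T) z) = 0 :=
    fun T w => by
      have h6 := (injSC (EtCoh.Gm X)).zero
      exact congrArg (fun ψ : (injSC (EtCoh.Gm X)).X₁ ⟶ (injSC (EtCoh.Gm X)).X₃ =>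
        ψ.hom.app (op T) w) h6
  have hex : ∀ (T : X.Etale) (y : (injSC (EtCoh.Gm X)).X₂.obj.obj (op T)),
      (injSC (EtCoh.Gm X)).g.hom.app (op T) y = 0 →
        ∃ z, (injSC (EtCoh.Gm X)).f.hom.app (op T) z = y :=
    fun T y hy => Groth.Agent.Lib.Helper22.CechU.Site.sections_exact_of_left_exact
      hS.exact hmono T y hy
  rw [subsingleton_H1_iff_surjective (EtCoh.Gm X) (isTerminalOE X)]
  constructor
  · intro hsurj
    refine zarH1Trivial_of_surjective (injSC (EtCoh.Gm X)).f (injSC (EtCoh.Gm X)).g hinj hzero hex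
      hsurj ?_
    intro U c hc
    have hI : Injective (injSC (EtCoh.Gm X)).X₂ := by
      unfold injSC
      infer_instance
    obtain ⟨t, ht⟩ := exists_cech_coboundary (ι := ULift.{u + 1} X) (fun i => U i.down)
      (injSC (EtCoh.Gm X)).X₂ (fun i j => c i.down j.down)
      (fun i j k W hi hj hk => hc i.down j.down k.down W hi hj hk)
    exact ⟨fun i => t ⟨i⟩, fun i j => ht ⟨i⟩ ⟨j⟩⟩
  · intro hZ
    exact surjective_of_zarH1Trivial (injSC (EtCoh.Gm X)).f (injSC (EtCoh.Gm X)).g hinj hzero hex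
      hZ exists_open_lift_oE

end

end Groth.Agent.Lib.Helper22.H90
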