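import Groth.Agent.Lib.Helper22.H90.PicEt
import Groth.Agent.Lib.Helper22.H90.PicAdm
import Groth.Prelude.Def_PicGrp

/-!
# `Pic(X) ≃+ H¹(X_ét, G_m)` (helper22)
-/

set_option autoImplicit false
set_option linter.unusedSectionVars false

universe u

open CategoryTheory CategoryTheory.Limits Opposite AlgebraicGeometry Abelian

namespace Groth.Agent.Lib.Helper22.H90

open Groth.Agent.Lib.Helper22.EtLoc Groth.Agent.Lib.Helper22.DimShift
open Groth.Agent.Lib.Helper22.CechU.Etale Groth.Agent.Lib.Helper22.EtAcycLib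
open Groth.Agent.Lib.Helper29.QCoh

noncomputable section

variable {X : Scheme.{u}}

lemma gm_hinj (T : X.Etale) : Function.Injective ((injSC (EtCoh.Gm X)).f.hom.app (op T)) := by
  have hmono : Mono (injSC (EtCoh.Gm X)).f := (injSC_shortExact (EtCoh.Gm X)).mono_f
  exact Groth.Agent.Lib.Helper22.CechU.Site.injective_app_of_mono _ T

lemma gm_hzero (T : X.Etale) (z : (EtCoh.Gm X).obj.obj (op T)) :
    (injSC (EtCoh.Gm X)).g.hom.app (op T) ((injSC (EtCoh.Gm X)).f.hom.app (op T) z) = 0 := by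
  have h6 := (injSC (EtCoh.Gm X)).zero
  exact congrArg (fun ψ : (injSC (EtCoh.Gm X)).X₁ ⟶ (injSC (EtCoh.Gm X)).X₃ =>
    ψ.hom.app (op T) z) h6

lemma gm_hex (T : X.Etale) (y : (injSC (EtCoh.Gm X)).X₂.obj.obj (op T))
    (hy : (injSC (EtCoh.Gm X)).g.hom.app (op T) y = 0) :
    ∃ z, (injSC (EtCoh.Gm X)).f.hom.app (op T) z = y := by
  have hS := injSC_shortExact (EtCoh.Gm X)
  have hmono : Mono (injSC (EtCoh.Gm X)).f := hS.mono_f
  exact Groth.Agent.Lib.Helper22.CechU.Site.sections_exact_of_left_exact hS.exact hmono T y hy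

lemma gm_hacyc (U : X → X.Opens)
    (c : ∀ i j, (injSC (EtCoh.Gm X)).X₂.obj.obj (op (oE (U i ⊓ U j))))
    (hc : ∀ (i j k : X) (W : X.Opens) (hi : W ≤ U i) (hj : W ≤ U j) (hk : W ≤ U k),
      (injSC (EtCoh.Gm X)).X₂.obj.map (oEmap (le_inf hi hj)).op (c i j) +
        (injSC (EtCoh.Gm X)).X₂.obj.map (oEmap (le_inf hj hk)).op (c j k) =
          (injSC (EtCoh.Gm X)).X₂.obj.map (oEmap (le_inf hi hk)).op (c i k)) :
    ∃ t : ∀ i, (injSC (EtCoh.Gm X)).X₂.obj.obj (op (oE (U i))), ∀ i j, c i j =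
      (injSC (EtCoh.Gm X)).X₂.obj.map (oEmap (inf_le_right : U i ⊓ U j ≤ U j)).op (t j) -
        (injSC (EtCoh.Gm X)).X₂.obj.map (oEmap (inf_le_left : U i ⊓ U j ≤ U i)).op (t i) := by
  have hI : Injective (injSC (EtCoh.Gm X)).X₂ := by
    unfold injSC
    infer_instance
  obtain ⟨t, ht⟩ := exists_cech_coboundary (ι := ULift.{u + 1} X) (fun i => U i.down)
    (injSC (EtCoh.Gm X)).X₂ (fun i j => c i.down j.down)
    (fun i j k W hi hj hk => hc i.down j.down k.down W hi hj hk)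
  exact ⟨fun i => t ⟨i⟩, fun i j => ht ⟨i⟩ ⟨j⟩⟩

/-- `b` is the section of `Q = I/G_m` attached to `L` by some choice of local trivialisations. -/
def Adm (L : X.Modules) (b : (injSC (EtCoh.Gm X)).X₃.obj.obj (op (oE (⊤ : X.Opens)))) : Prop :=
  ∃ (U : X → X.Opens) (_ : ∀ x, x ∈ U x),
    Nonempty (AdmData (injSC (EtCoh.Gm X)).f (injSC (EtCoh.Gm X)).g L b U)

/-- The connecting map `Q(X) → H¹(X_ét, G_m)`. -/
abbrev dGm (X : Scheme.{u}) :
    (injSC (EtCoh.Gm X)).X₃.obj.obj (op (oE (⊤ : X.Opens))) →+ EtCoh.H X (EtCoh.Gm X) 1 :=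
  delta (EtCoh.Gm X) (isTerminalOE X)

lemma Adm.delta_eq {L L' : X.Modules}
    {b b' : (injSC (EtCoh.Gm X)).X₃.obj.obj (op (oE (⊤ : X.Opens)))}
    (h : Adm L b) (h' : Adm L' b') (φ : L ≅ L') : dGm X b = dGm X b' := by
  obtain ⟨U, hxU, ⟨D⟩⟩ := h
  obtain ⟨U', hxU', ⟨D'⟩⟩ := h'
  let V : X → X.Opens := fun x => U x ⊓ U' x
  have hxV : ∀ x, x ∈ V x := fun x => ⟨hxU x, hxU' x⟩
  obtain ⟨s, hs⟩ := AdmData.exists_diff gm_hinj gm_hzero hxV
    ((D.ofIso φ).restrict V fun _ => inf_le_left) (D'.restrict V fun _ => inf_le_right)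
  have h0 : dGm X (b' - b) = 0 := (delta_eq_zero_iff _ _ _).2 ⟨s, hs⟩
  rw [map_sub, sub_eq_zero] at h0
  exact h0.symm

lemma Adm.tensor {L L' : X.Modules} (hL : PicF.IsInvertible L) (hL' : PicF.IsInvertible L')
    {b b' : (injSC (EtCoh.Gm X)).X₃.obj.obj (op (oE (⊤ : X.Opens)))}
    (h : Adm L b) (h' : Adm L' b') : Adm (CohB1.tensorMod L L') (b + b') := by
  obtain ⟨U, hxU, ⟨D⟩⟩ := h
  obtain ⟨U', hxU', ⟨D'⟩⟩ := h'
  have := isQuasicoherent_of_isInvertible hL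
  have := isQuasicoherent_of_isInvertible hL'
  exact ⟨fun x => U x ⊓ U' x, fun x => ⟨hxU x, hxU' x⟩,
    ⟨(D.restrict _ fun _ => inf_le_left).tensor (D'.restrict _ fun _ => inf_le_right)⟩⟩

/-- **The Picard group is `H¹(X_ét, G_m)`.** -/
theorem nonempty_addEquiv_pic_H1_Gm (X : Scheme.{u}) [PicGrp.Law X] :
    Nonempty (Additive (PicLoc.PicSet X) ≃+ EtCoh.H X (EtCoh.Gm X) 1) := by
  have hadm : ∀ (L : X.Modules), PicF.IsInvertible L → ∃ b, Adm L b := by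
    intro L hL
    obtain ⟨b, U, hxU, hD⟩ := exists_admData_of_invertible (f := (injSC (EtCoh.Gm X)).f)
      (g := (injSC (EtCoh.Gm X)).g) gm_hzero gm_hacyc L hL
    exact ⟨b, U, hxU, hD⟩
  have hΦ : ∀ c : PicLoc.PicSet X, ∃ h : EtCoh.H X (EtCoh.Gm X) 1,
      ∀ (L : X.Modules) (hL : PicF.IsInvertible L) b, c = PicGrp.cls L hL → Adm L b →
        dGm X b = h := by
    intro c
    obtain ⟨L₀, hL₀, hc₀⟩ := PicGrp.exists_eq_cls c
    obtain ⟨b₀, hb₀⟩ := hadm L₀ hL₀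
    refine ⟨dGm X b₀, fun L hL b hc hb => ?_⟩
    obtain ⟨φ⟩ := (PicGrp.cls_eq_cls_iff hL hL₀).1 (hc.symm.trans hc₀)
    exact hb.delta_eq hb₀ φ
  choose Φ hΦ using hΦ
  have hmul : ∀ c c' : PicLoc.PicSet X, Φ (c * c') = Φ c + Φ c' := by
    intro c c'
    obtain ⟨L, hL, hc⟩ := PicGrp.exists_eq_cls c
    obtain ⟨L', hL', hc'⟩ := PicGrp.exists_eq_cls c'
    obtain ⟨b, hb⟩ := hadm L hL
    obtain ⟨b', hb'⟩ := hadm L' hL'
    have hcc : c * c' = PicGrp.cls (CohB1.tensorMod L L') (isInvertible_tensorMod hL hL') := by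
      apply Subtype.ext
      rw [hc, hc', PicGrp.cls_mul_cls_val]
      rfl
    rw [← hΦ (c * c') _ _ (b + b') hcc (hb.tensor hL hL' hb'), ← hΦ c L hL b hc hb,
      ← hΦ c' L' hL' b' hc' hb', map_add]
  let Φ' : Additive (PicLoc.PicSet X) →+ EtCoh.H X (EtCoh.Gm X) 1 :=
    AddMonoidHom.mk' (fun a => Φ a.toMul) (fun a a' => hmul a.toMul a'.toMul)
  refine ⟨AddEquiv.ofBijective Φ' ⟨?_, ?_⟩⟩
  · rw [injective_iff_map_eq_zero]
    intro a ha
    obtain ⟨L, hL, hc⟩ := PicGrp.exists_eq_cls a.toMul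
    obtain ⟨b, hb⟩ := hadm L hL
    have h1 : dGm X b = 0 := (hΦ a.toMul L hL b hc hb).trans ha
    obtain ⟨s, hs⟩ := (delta_eq_zero_iff _ _ _).1 h1
    obtain ⟨U, hxU, ⟨D⟩⟩ := hb
    have hiso := D.nonempty_iso_unit gm_hinj gm_hex hxU s hs
    have h2 : PicGrp.cls L hL = 1 := by
      rw [← PicGrp.cls_structureModule_eq_one]
      exact (PicGrp.cls_eq_cls_iff hL _).2 hiso
    apply Additive.toMul.injective
    rw [hc, h2]
    rfl
  · intro h
    obtain ⟨b, hb⟩ := delta_surjective (EtCoh.Gm X) (isTerminalOE X) h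
    obtain ⟨L, hL, U, hxU, hD⟩ := exists_admData_of_section (f := (injSC (EtCoh.Gm X)).f)
      (g := (injSC (EtCoh.Gm X)).g) gm_hinj gm_hex b (exists_open_lift_oE b)
    refine ⟨Additive.ofMul (PicGrp.cls L hL), ?_⟩
    change Φ (PicGrp.cls L hL) = h
    rw [← hΦ (PicGrp.cls L hL) L hL b rfl ⟨U, hxU, hD⟩]
    exact hb

end

end Groth.Agent.Lib.Helper22.H90
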