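import Groth.Agent.Lib.Helper22.H90.PicZ
import Groth.Agent.Lib.Helper29.Cocycle
import Groth.Agent.Lib.Helper29.Punct3

/-!
# Zariski cocycles of units are coboundaries iff invertible modules are trivial (helper22)
-/

set_option autoImplicit false
set_option linter.unusedSectionVars false

universe u

open CategoryTheory CategoryTheory.Limits Opposite AlgebraicGeometry

namespace Groth.Agent.Lib.Helper22.H90

open Groth.Agent.Lib.Helper29.QCoh

noncomputable section

variable {X : Scheme.{u}}

/-- If all invertible modules are trivial, Zariski cocycles of units are coboundaries. -/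
theorem zarH1Trivial_of_forall_iso
    (hall : ∀ L : X.Modules, PicF.IsInvertible L → Nonempty (L ≅ Coh.structureModule X)) :
    ZarH1Trivial X := by
  intro U hxU c
  obtain ⟨L, e, hL, hT, htr⟩ := Glue.exists_invertible_of_cocycle (fun x => ⟨x, hxU x⟩) c
  obtain ⟨φ⟩ := hall L hL
  let φ' : L ≅ unitM X := φ
  let a : ∀ k, Γ(X, U k) := fun k => fromUnit (φ'.hom.app (U k) (e k))
  have ha : ∀ k, IsUnit (a k) := by
    intro k
    obtain ⟨m, hm⟩ := (app_bijective_of_isIso φ'.hom (U k)).2 (toUnit (1 : Γ(X, U k)))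
    obtain ⟨r, hr⟩ := (hT k).exists_eq_smul m
    rw [hr, Scheme.Modules.Hom.app_smul] at hm
    have h1 : r * a k = 1 := congrArg fromUnit hm
    exact IsUnit.of_mul_eq_one_right _ h1
  refine ⟨fun k => (ha k).unit, fun i j => ?_⟩
  rw [IsUnit.unit_spec, IsUnit.unit_spec]
  have h2 := congrArg (φ'.hom.app (U i ⊓ U j)) (htr i j)
  rw [Scheme.Modules.Hom.app_smul, app_res, app_res] at h2
  exact congrArg fromUnit h2

/-- If Zariski cocycles of units are coboundaries, all invertible modules are trivial. -/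
theorem forall_iso_of_zarH1Trivial (hZ : ZarH1Trivial X) (L : X.Modules)
    (hL : PicF.IsInvertible L) : Nonempty (L ≅ Coh.structureModule X) := by
  choose U e hxU hT using fun x => exists_isTriv hL x
  choose g' hg' using fun i j =>
    ((hT j).restrict (inf_le_right : U i ⊓ U j ≤ U j)).exists_eq_smul
      (res L (inf_le_left : U i ⊓ U j ≤ U i) (e i))
  have key : ∀ (i j : X) (W : X.Opens) (hi : W ≤ U i) (hj : W ≤ U j),
      res L hi (e i) = rres X (le_inf hi hj) (g' i j) • res L hj (e j) := by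
    intro i j W hi hj
    have h1 := congrArg (res L (le_inf hi hj)) (hg' i j)
    rw [res_smul', res_res, res_res] at h1
    exact h1
  let c : Glue.Cocycle U :=
    { g := g'
      one := fun i => by
        have h1 := hg' i i
        have h2 : (1 : Γ(X, U i ⊓ U i)) • res L (inf_le_right : U i ⊓ U i ≤ U i) (e i) =
            g' i i • res L (inf_le_right : U i ⊓ U i ≤ U i) (e i) := by
          rw [one_smul]
          exact h1
        exact (((hT i).restrict (inf_le_right : U i ⊓ U i ≤ U i)).smul_left_cancel h2).symm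
      mul := fun i j k W hi hj hk => by
        apply ((hT k).restrict hk).smul_left_cancel
        rw [mul_smul, ← key j k W hj hk, ← key i j W hi hj, ← key i k W hi hk] }
  obtain ⟨h, hh⟩ := hZ U hxU c
  obtain ⟨φ, -⟩ := exists_iso_of_cocycle (M := L) (N := unitM X) (U := U) (m := e)
    (n := fun i => toUnit ((↑(h i)⁻¹ : Γ(X, U i)))) (fun x => ⟨x, hxU x⟩) hT
    (fun i => Groth.Agent.Lib.Helper29.Punct.isTriv_toUnit_of_isUnit _ (Units.isUnit _))
    (fun i j => ⟨g' i j, hg' i j, by
      have hA : rres X (inf_le_left : U i ⊓ U j ≤ U i) (h i : Γ(X, U i)) *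
          rres X (inf_le_left : U i ⊓ U j ≤ U i) (↑(h i)⁻¹ : Γ(X, U i)) = 1 := by
        rw [← map_mul, Units.mul_inv, map_one]
      have hB : rres X (inf_le_right : U i ⊓ U j ≤ U j) (h j : Γ(X, U j)) *
          rres X (inf_le_right : U i ⊓ U j ≤ U j) (↑(h j)⁻¹ : Γ(X, U j)) = 1 := by
        rw [← map_mul, Units.mul_inv, map_one]
      have hh' : rres X (inf_le_right : U i ⊓ U j ≤ U j) (h j : Γ(X, U j)) =
          g' i j * rres X (inf_le_left : U i ⊓ U j ≤ U i) (h i : Γ(X, U i)) := hh i j
      change rres X (inf_le_left : U i ⊓ U j ≤ U i) (↑(h i)⁻¹ : Γ(X, U i)) =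
        g' i j * rres X (inf_le_right : U i ⊓ U j ≤ U j) (↑(h j)⁻¹ : Γ(X, U j))
      linear_combination
        (-(rres X (inf_le_left : U i ⊓ U j ≤ U i) (↑(h i)⁻¹ : Γ(X, U i)))) * hB +
        (rres X (inf_le_left : U i ⊓ U j ≤ U i) (↑(h i)⁻¹ : Γ(X, U i)) *
          rres X (inf_le_right : U i ⊓ U j ≤ U j) (↑(h j)⁻¹ : Γ(X, U j))) * hh' +
        (g' i j * rres X (inf_le_right : U i ⊓ U j ≤ U j) (↑(h j)⁻¹ : Γ(X, U j))) * hA⟩)
  exact ⟨φ⟩

/-- Zariski cocycles of units are coboundaries iff all invertible modules are trivial. -/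
theorem zarH1Trivial_iff_forall_iso (X : Scheme.{u}) :
    ZarH1Trivial X ↔
      ∀ L : X.Modules, PicF.IsInvertible L → Nonempty (L ≅ Coh.structureModule X) :=
  ⟨forall_iso_of_zarH1Trivial, zarH1Trivial_of_forall_iso⟩

end

end Groth.Agent.Lib.Helper22.H90
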