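import Groth.Agent.Lib.Helper22.H90.PicA
import Groth.Agent.Lib.Helper29.Glue1

/-!
# Zariski `1`-cocycles of units against a left exact sequence `0 → G_m → I → Q` (helper22)
-/

set_option autoImplicit false
set_option linter.unusedSectionVars false

universe u

open CategoryTheory CategoryTheory.Limits Opposite AlgebraicGeometry

namespace Groth.Agent.Lib.Helper22.H90

open Groth.Agent.Lib.Helper22.CechU.Etale
open Groth.Agent.Lib.Helper29.QCoh

noncomputable section

variable {X : Scheme.{u}}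

/-- Every Zariski `1`-cocycle of units on a pointed open cover is a coboundary. -/
def ZarH1Trivial (X : Scheme.{u}) : Prop :=
  ∀ (U : X → X.Opens) (_ : ∀ x, x ∈ U x) (c : Glue.Cocycle U),
    ∃ h : ∀ i, (Γ(X, U i))ˣ, ∀ i j,
      rres X (inf_le_right : U i ⊓ U j ≤ U j) (h j) =
        c.g i j * rres X (inf_le_left : U i ⊓ U j ≤ U i) (h i)

/-- Restriction of units. -/
abbrev ures {U V : X.Opens} (h : V ≤ U) : (Γ(X, U))ˣ →* (Γ(X, V))ˣ :=
  Units.map (rres X h : Γ(X, U) →* Γ(X, V))

section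

variable {I Q : EtCoh.Ab X} (f : EtCoh.Gm X ⟶ I) (g : I ⟶ Q)

/-- Units on an open as sections of `I`. -/
def fz (U : X.Opens) (a : (Γ(X, U))ˣ) : I.obj.obj (op (oE U)) :=
  f.hom.app (op (oE U)) (gmZ U a)

lemma fz_mul (U : X.Opens) (a b : (Γ(X, U))ˣ) : fz f U (a * b) = fz f U a + fz f U b := by
  unfold fz
  rw [gmZ_mul, map_add]

lemma fz_one (U : X.Opens) : fz f U 1 = 0 := by
  unfold fz
  rw [gmZ_one, map_zero]

lemma map_fz {U U' : X.Opens} (h : U' ≤ U) (a : (Γ(X, U))ˣ) :
    I.obj.map (oEmap h).op (fz f U a) = fz f U' (ures h a) := by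
  unfold fz
  have hn := NatTrans.naturality_apply f.hom (oEmap h).op (gmZ U a)
  rw [← hn, map_gmZ]

variable (hinj : ∀ T : X.Etale, Function.Injective (f.hom.app (op T)))
  (hzero : ∀ (T : X.Etale) (z : (EtCoh.Gm X).obj.obj (op T)),
    g.hom.app (op T) (f.hom.app (op T) z) = 0)
  (hex : ∀ (T : X.Etale) (y : I.obj.obj (op T)), g.hom.app (op T) y = 0 →
    ∃ z, f.hom.app (op T) z = y)

include hinj in
lemma fz_injective (U : X.Opens) : Function.Injective (fz f U) := fun _ _ h =>
  gmZ_injective U (hinj _ h)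

include hzero in
lemma g_fz (U : X.Opens) (a : (Γ(X, U))ˣ) : g.hom.app (op (oE U)) (fz f U a) = 0 :=
  hzero _ _

include hex in
lemma exists_fz (U : X.Opens) (y : I.obj.obj (op (oE U))) (hy : g.hom.app (op (oE U)) y = 0) :
    ∃ a, fz f U a = y := by
  obtain ⟨z, hz⟩ := hex _ y hy
  obtain ⟨a, ha⟩ := gmZ_surjective U z
  exact ⟨a, by unfold fz; rw [ha, hz]⟩

lemma g_map (T T' : X.Etale) (k : T' ⟶ T) (y : I.obj.obj (op T)) :
    g.hom.app (op T') (I.obj.map k.op y) = Q.obj.map k.op (g.hom.app (op T) y) :=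
  NatTrans.naturality_apply g.hom k.op y

lemma ures_ures {U V W : X.Opens} (h : V ≤ U) (h' : W ≤ V) (a : (Γ(X, U))ˣ) :
    ures h' (ures h a) = ures (h'.trans h) a :=
  Units.ext (rres_rres X h h' a)

lemma ures_self {U : X.Opens} (a : (Γ(X, U))ˣ) : ures (le_refl U) a = a :=
  Units.ext (Groth.Agent.Lib.Helper29.QCoh.rres_self X (a : Γ(X, U)))

include hinj hzero hex in
/-- If Zariski cocycles of units are coboundaries and sections of `Q` lift Zariski locally, then
`I → Q` is surjective on global sections. -/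
theorem surjective_of_zarH1Trivial (hZ : ZarH1Trivial X)
    (hloc : ∀ (b : Q.obj.obj (op (oE (⊤ : X.Opens)))) (x : X), ∃ U : X.Opens, x ∈ U ∧
      ∃ τ : I.obj.obj (op (oE U)), g.hom.app _ τ = Q.obj.map (oEmap le_top).op b) :
    Function.Surjective (g.hom.app (op (oE (⊤ : X.Opens)))) := by
  intro b
  choose U hxU τ hτ using hloc b
  -- the differences
  let d : ∀ i j, I.obj.obj (op (oE (U i ⊓ U j))) := fun i j =>
    I.obj.map (oEmap inf_le_right).op (τ j) - I.obj.map (oEmap inf_le_left).op (τ i)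
  have hd_res : ∀ (i j : X) (W : X.Opens) (hi : W ≤ U i) (hj : W ≤ U j),
      I.obj.map (oEmap (le_inf hi hj)).op (d i j) =
        I.obj.map (oEmap hj).op (τ j) - I.obj.map (oEmap hi).op (τ i) := by
    intro i j W hi hj
    change I.obj.map (oEmap (le_inf hi hj)).op (_ - _) = _
    rw [map_sub, map_oEmap_comp, map_oEmap_comp]
  have hgd : ∀ i j, g.hom.app _ (d i j) = 0 := by
    intro i j
    change g.hom.app _ (_ - _) = 0
    rw [map_sub, g_map, g_map, hτ, hτ, map_oEmap_comp, map_oEmap_comp, sub_self]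
  choose γ hγ using fun i j => exists_fz f g hex (U i ⊓ U j) (d i j) (hgd i j)
  let c : Glue.Cocycle U :=
    { g := fun i j => (γ i j : Γ(X, U i ⊓ U j))
      one := fun i => by
        have h1 : γ i i = 1 := by
          apply fz_injective f hinj
          rw [hγ, fz_one]
          exact sub_self _
        rw [h1]
        rfl
      mul := fun i j k W hi hj hk => by
        have h1 : ures (le_inf hi hj) (γ i j) * ures (le_inf hj hk) (γ j k) =
            ures (le_inf hi hk) (γ i k) := by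
          apply fz_injective f hinj
          rw [fz_mul, ← map_fz, ← map_fz, ← map_fz, hγ, hγ, hγ, hd_res i j W hi hj,
            hd_res j k W hj hk, hd_res i k W hi hk]
          abel
        exact congrArg Units.val h1 }
  obtain ⟨h, hh⟩ := hZ U hxU c
  have hh' : ∀ i j, ures (inf_le_right : U i ⊓ U j ≤ U j) (h j) =
      γ i j * ures (inf_le_left : U i ⊓ U j ≤ U i) (h i) := fun i j => Units.ext (hh i j)
  let τ' : ∀ i, I.obj.obj (op (oE (U i))) := fun i => τ i - fz f (U i) (h i)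
  have hcompat : ∀ i j, I.obj.map (oEmap (inf_le_left : U i ⊓ U j ≤ U i)).op (τ' i) =
      I.obj.map (oEmap (inf_le_right : U i ⊓ U j ≤ U j)).op (τ' j) := by
    intro i j
    change I.obj.map _ (_ - _) = I.obj.map _ (_ - _)
    rw [map_sub, map_sub, map_fz, map_fz, hh', fz_mul, hγ]
    change _ = _ - (I.obj.map (oEmap inf_le_right).op (τ j) -
      I.obj.map (oEmap inf_le_left).op (τ i) + _)
    abel
  obtain ⟨s, hs⟩ := zglue U ⊤ (fun _ => le_top) (fun x _ => ⟨x, hxU x⟩) I τ' hcompat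
  refine ⟨s, ?_⟩
  refine zsep U ⊤ (fun _ => le_top) (fun x _ => ⟨x, hxU x⟩) Q _ _ fun i => ?_
  rw [← g_map, hs]
  change g.hom.app _ (_ - _) = _
  rw [map_sub, g_fz f g hzero, sub_zero, hτ]

lemma isUnit_cocycle {U : X → X.Opens} (c : Glue.Cocycle U) (i j : X) : IsUnit (c.g i j) := by
  have h := c.mul i j i (U i ⊓ U j) inf_le_left inf_le_right inf_le_left
  rw [c.one, map_one] at h
  have h2 : rres X (le_inf inf_le_left inf_le_right : U i ⊓ U j ≤ U i ⊓ U j) (c.g i j) =
      c.g i j := Groth.Agent.Lib.Helper29.QCoh.rres_self X _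
  rw [h2] at h
  exact IsUnit.of_mul_eq_one _ h

include hinj hzero hex in
/-- If `I → Q` is surjective on global sections and `I` has vanishing Čech `H¹` for Zariski
covers, every Zariski cocycle of units is a coboundary. -/
theorem zarH1Trivial_of_surjective
    (hsurj : Function.Surjective (g.hom.app (op (oE (⊤ : X.Opens)))))
    (hacyc : ∀ (U : X → X.Opens) (c : ∀ i j, I.obj.obj (op (oE (U i ⊓ U j)))),
      (∀ (i j k : X) (W : X.Opens) (hi : W ≤ U i) (hj : W ≤ U j) (hk : W ≤ U k),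
        I.obj.map (oEmap (le_inf hi hj)).op (c i j) + I.obj.map (oEmap (le_inf hj hk)).op (c j k) =
          I.obj.map (oEmap (le_inf hi hk)).op (c i k)) →
      ∃ t : ∀ i, I.obj.obj (op (oE (U i))), ∀ i j, c i j =
        I.obj.map (oEmap (inf_le_right : U i ⊓ U j ≤ U j)).op (t j) -
          I.obj.map (oEmap (inf_le_left : U i ⊓ U j ≤ U i)).op (t i)) :
    ZarH1Trivial X := by
  intro U hxU c
  let γ : ∀ i j, (Γ(X, U i ⊓ U j))ˣ := fun i j => (isUnit_cocycle c i j).unit
  have hγ : ∀ i j, (γ i j : Γ(X, U i ⊓ U j)) = c.g i j := fun i j => IsUnit.unit_spec _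
  obtain ⟨t, ht⟩ := hacyc U (fun i j => fz f (U i ⊓ U j) (γ i j)) (by
    intro i j k W hi hj hk
    rw [map_fz, map_fz, map_fz, ← fz_mul]
    congr 1
    apply Units.ext
    change rres X _ (γ i j : Γ(X, U i ⊓ U j)) * rres X _ (γ j k : Γ(X, U j ⊓ U k)) =
      rres X _ (γ i k : Γ(X, U i ⊓ U k))
    rw [hγ, hγ, hγ]
    exact c.mul i j k W hi hj hk)
  have hcompat : ∀ i j, Q.obj.map (oEmap (inf_le_left : U i ⊓ U j ≤ U i)).op
      (g.hom.app _ (t i)) = Q.obj.map (oEmap (inf_le_right : U i ⊓ U j ≤ U j)).op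
      (g.hom.app _ (t j)) := by
    intro i j
    rw [← g_map, ← g_map]
    have h1 := congrArg (g.hom.app (op (oE (U i ⊓ U j)))) (ht i j)
    rw [g_fz f g hzero, map_sub] at h1
    exact (sub_eq_zero.1 h1.symm).symm
  obtain ⟨b, hb⟩ := zglue U ⊤ (fun _ => le_top) (fun x _ => ⟨x, hxU x⟩) Q
    (fun i => g.hom.app _ (t i)) hcompat
  obtain ⟨y, hy⟩ := hsurj b
  have hker : ∀ i, g.hom.app _ (t i - I.obj.map (oEmap (le_top : U i ≤ ⊤)).op y) = 0 := by
    intro i
    rw [map_sub, g_map, hy, hb, sub_self]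
  choose h hh using fun i => exists_fz f g hex (U i) _ (hker i)
  refine ⟨h, fun i j => ?_⟩
  have h1 : ures (inf_le_right : U i ⊓ U j ≤ U j) (h j) =
      γ i j * ures (inf_le_left : U i ⊓ U j ≤ U i) (h i) := by
    apply fz_injective f hinj
    rw [fz_mul, ← map_fz, ← map_fz, hh, hh, ht i j, map_sub, map_sub, map_oEmap_comp,
      map_oEmap_comp]
    abel
  have h2 := congrArg Units.val h1
  rw [← hγ]
  exact h2

end

end

end Groth.Agent.Lib.Helper22.H90
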