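import Groth.Agent.Lib.Helper22.H90.Aff

/-!
# Fibre products of affine objects and descent of sections along a covering morphism (helper22)
-/

set_option autoImplicit false
set_option linter.unusedSectionVars false

universe u

open CategoryTheory CategoryTheory.Limits AlgebraicGeometry Opposite TensorProduct

namespace Groth.Agent.Lib.Helper22.H90

open Groth.Agent.Lib.Helper22.CechU.Etale

noncomputable section

variable {X : Scheme.{u}}

section Cover

variable {U V : X.Etale} (m : V ⟶ U) (hm : Function.Surjective m.left.base)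

include hm in
lemma cover_mem :
    Sieve.ofArrows (fun _ : PUnit.{u + 2} => V) (fun _ => m) ∈ X.smallEtaleTopology U := by
  rw [mem_smallEtaleTopology_iff]
  intro x
  obtain ⟨y, hy⟩ := hm x
  exact ⟨V, m, y, Sieve.ofArrows_mk _ _ PUnit.unit, hy⟩

include hm in
lemma isSheafFor_cover (F : EtCoh.Ab X) :
    (Presieve.ofArrows (fun _ : PUnit.{u + 2} => V) (fun _ => m)).IsSheafFor
      (F.obj ⋙ forget AddCommGrpCat.{u + 1}) := by
  rw [Presieve.isSheafFor_iff_generate]
  exact isSheaf_forget F _ (cover_mem m hm)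

include hm in
/-- Sections agreeing on a covering morphism are equal. -/
lemma eq_of_cover (F : EtCoh.Ab X) (a b : F.obj.obj (op U))
    (h : F.obj.map m.op a = F.obj.map m.op b) : a = b := by
  refine (isSheafFor_cover m hm F).isSeparatedFor.ext ?_
  intro Z g hg
  obtain ⟨i⟩ := hg
  exact h

include hm in
/-- Descent of a section along a covering morphism. -/
lemma exists_descent (F : EtCoh.Ab X) (t : F.obj.obj (op V))
    (hcompat : ∀ (Z : X.Etale) (g₁ g₂ : Z ⟶ V), g₁ ≫ m = g₂ ≫ m →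
      F.obj.map g₁.op t = F.obj.map g₂.op t) :
    ∃ t' : F.obj.obj (op U), F.obj.map m.op t' = t := by
  have hs := (Presieve.isSheafFor_arrows_iff (F.obj ⋙ forget AddCommGrpCat.{u + 1})
    (fun _ : PUnit.{u + 2} => m)).1 (isSheafFor_cover m hm F)
  let x : (i : PUnit.{u + 2}) → (F.obj ⋙ forget AddCommGrpCat.{u + 1}).obj (op V) := fun _ => t
  have hx : Presieve.Arrows.Compatible (F.obj ⋙ forget AddCommGrpCat.{u + 1})
      (fun _ : PUnit.{u + 2} => m) x := by
    intro i j Z gi gj hij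
    exact hcompat Z gi gj hij
  obtain ⟨s, hs1, -⟩ := hs x hx
  exact ⟨s, hs1 PUnit.unit⟩

end Cover

variable {A : Type u} [CommRing A] (e : Spec (CommRingCat.of A) ⟶ X) [Etale e]

section Prod

variable (R₁ R₂ : Type u) [CommRing R₁] [CommRing R₂] [Algebra A R₁] [Algebra A R₂]
  [Algebra.Etale A R₁] [Algebra.Etale A R₂]

instance etale_tensor : Algebra.Etale A (R₁ ⊗[A] R₂) := Algebra.Etale.comp A R₁ (R₁ ⊗[A] R₂)

variable {R₁ R₂}

/-- `aff e (R₁ ⊗ R₂)` has the weak universal property of the fibre product over `aff e A`. -/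
lemma exists_prod_lift {Z : X.Etale} (g₁ : Z ⟶ aff e R₁) (g₂ : Z ⟶ aff e R₂)
    (h : g₁ ≫ affMap e (Algebra.ofId A R₁) = g₂ ≫ affMap e (Algebra.ofId A R₂)) :
    ∃ w : Z ⟶ aff e (R₁ ⊗[A] R₂),
      w ≫ affMap e (Algebra.TensorProduct.includeLeft : R₁ →ₐ[A] R₁ ⊗[A] R₂) = g₁ ∧
      w ≫ affMap e (Algebra.TensorProduct.includeRight : R₂ →ₐ[A] R₁ ⊗[A] R₂) = g₂ := by
  have hpb := isPullback_SpecMap_of_isPushout _ _ _ _ (CommRingCat.isPushout_tensorProduct A R₁ R₂)
  have h' : g₁.left ≫ Spec.map (CommRingCat.ofHom (algebraMap A R₁)) =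
      g₂.left ≫ Spec.map (CommRingCat.ofHom (algebraMap A R₂)) :=
    congrArg (fun φ => φ.left) h
  let w₀ : Z.left ⟶ Spec (CommRingCat.of (R₁ ⊗[A] R₂)) := hpb.lift g₁.left g₂.left h'
  have hw1 : w₀ ≫ Spec.map (CommRingCat.ofHom
      (Algebra.TensorProduct.includeLeftRingHom : R₁ →+* R₁ ⊗[A] R₂)) = g₁.left :=
    hpb.lift_fst _ _ _
  have hw2 : w₀ ≫ Spec.map (CommRingCat.ofHom
      (Algebra.TensorProduct.includeRight : R₂ →ₐ[A] R₁ ⊗[A] R₂).toRingHom) = g₂.left :=
    hpb.lift_snd _ _ _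
  have hw : w₀ ≫ (sm (A := A) (R₁ ⊗[A] R₂) ≫ e) = Z.hom := by
    have e1 : g₁.left ≫ (sm (A := A) R₁ ≫ e) = Z.hom := MorphismProperty.Over.w g₁
    rw [← e1, ← hw1, ← sm_comp (A := A)
      (Algebra.TensorProduct.includeLeft : R₁ →ₐ[A] R₁ ⊗[A] R₂)]
    simp only [Category.assoc]
    rfl
  refine ⟨MorphismProperty.Over.homMk w₀ hw trivial, ?_, ?_⟩
  · apply MorphismProperty.Over.Hom.ext
    exact hw1
  · apply MorphismProperty.Over.Hom.ext
    exact hw2

end Prod

end

end Groth.Agent.Lib.Helper22.H90
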