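import Groth.Agent.Lib.Helper22.H90.Main
import Groth.Prelude.Def_EtZar

/-!
# Opens of `X` as objects of the small étale site: gluing along Zariski covers and sections of
`G_m` (helper22)
-/

set_option autoImplicit false
set_option linter.unusedSectionVars false

universe u

open CategoryTheory CategoryTheory.Limits Opposite AlgebraicGeometry

namespace Groth.Agent.Lib.Helper22.H90

open Groth.Agent.Lib.Helper22.CechU.Etale

noncomputable section

variable {X : Scheme.{u}}

/-- The open `U` as an object of the small étale site. -/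
abbrev oE (U : X.Opens) : X.Etale := (EtZar.zarToEt X).obj U

/-- The inclusion of opens as a morphism of the small étale site. -/
abbrev oEmap {U' U : X.Opens} (h : U' ≤ U) : oE U' ⟶ oE U := (EtZar.zarToEt X).map (homOfLE h)

instance subsingleton_hom_oE (T : X.Etale) (U : X.Opens) : Subsingleton (T ⟶ oE U) :=
  ⟨fun a b => by
    apply MorphismProperty.Over.Hom.ext
    have ha : a.left ≫ U.ι = T.hom := MorphismProperty.Over.w a
    have hb : b.left ≫ U.ι = T.hom := MorphismProperty.Over.w b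
    exact (cancel_mono U.ι).1 (ha.trans hb.symm)⟩

/-- The underlying morphism of `toOE`. -/
def toOEleft (T : X.Etale) (U : X.Opens)
    (h : Set.range (T.hom : T.left ⟶ X) ⊆ (U : Set X)) : T.left ⟶ (U : Scheme.{u}) := by
  have : IsOpenImmersion U.ι := inferInstance
  refine IsOpenImmersion.lift (U.ι : (U : Scheme.{u}) ⟶ X) (T.hom : T.left ⟶ X) ?_
  rw [Scheme.Opens.range_ι]
  exact h

lemma toOEleft_fac (T : X.Etale) (U : X.Opens)
    (h : Set.range (T.hom : T.left ⟶ X) ⊆ (U : Set X)) :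
    toOEleft T U h ≫ U.ι = T.hom :=
  IsOpenImmersion.lift_fac _ _ _

/-- An étale `X`-scheme whose image lies in `U` maps to `U`. -/
def toOE (T : X.Etale) (U : X.Opens)
    (h : Set.range (T.hom : T.left ⟶ X) ⊆ (U : Set X)) : T ⟶ oE U :=
  MorphismProperty.Over.homMk (toOEleft T U h) (toOEleft_fac T U h) trivial

lemma range_subset_of_hom {T : X.Etale} {U : X.Opens} (a : T ⟶ oE U) :
    Set.range (T.hom : T.left ⟶ X) ⊆ (U : Set X) := by
  rintro _ ⟨t, rfl⟩
  have h : a.left ≫ U.ι = T.hom := MorphismProperty.Over.w a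
  rw [← h]
  exact (a.left t).2

/-- Two morphisms to opens give a morphism to the intersection. -/
def toInf {T : X.Etale} {U V : X.Opens} (a : T ⟶ oE U) (b : T ⟶ oE V) : T ⟶ oE (U ⊓ V) :=
  toOE T (U ⊓ V) fun x hx => ⟨range_subset_of_hom a hx, range_subset_of_hom b hx⟩

section Cover

variable {ι : Type*} (V : ι → X.Opens) (W : X.Opens) (hVW : ∀ i, V i ≤ W)
  (hcov : ∀ x ∈ W, ∃ i, x ∈ V i)

include hcov in
lemma zcover_mem :
    Sieve.ofArrows (fun i => oE (V i)) (fun i => oEmap (hVW i)) ∈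
      X.smallEtaleTopology (oE W) := by
  rw [mem_smallEtaleTopology_iff]
  intro x
  obtain ⟨i, hi⟩ := hcov x.1 x.2
  refine ⟨oE (V i), oEmap (hVW i), ⟨x.1, hi⟩, Sieve.ofArrows_mk _ _ i, ?_⟩
  apply Subtype.ext
  exact Scheme.homOfLE_apply (hVW i) ⟨x.1, hi⟩

include hcov in
lemma isSheafFor_zcover (F : EtCoh.Ab X) :
    (Presieve.ofArrows (fun i => oE (V i)) (fun i => oEmap (hVW i))).IsSheafFor
      (F.obj ⋙ forget AddCommGrpCat.{u + 1}) := by
  rw [Presieve.isSheafFor_iff_generate]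
  exact isSheaf_forget F _ (zcover_mem V W hVW hcov)

include hcov in
/-- Sections of an étale sheaf over an open are determined on a Zariski cover. -/
lemma zsep (F : EtCoh.Ab X) (a b : F.obj.obj (op (oE W)))
    (h : ∀ i, F.obj.map (oEmap (hVW i)).op a = F.obj.map (oEmap (hVW i)).op b) : a = b := by
  refine (isSheafFor_zcover V W hVW hcov F).isSeparatedFor.ext ?_
  intro Z g hg
  obtain ⟨i⟩ := hg
  exact h i

include hcov in
/-- Gluing of sections of an étale sheaf along a Zariski cover. -/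
lemma zglue (F : EtCoh.Ab X) (t : ∀ i, F.obj.obj (op (oE (V i))))
    (hcompat : ∀ i j, F.obj.map (oEmap (inf_le_left : V i ⊓ V j ≤ V i)).op (t i) =
      F.obj.map (oEmap (inf_le_right : V i ⊓ V j ≤ V j)).op (t j)) :
    ∃ s : F.obj.obj (op (oE W)), ∀ i, F.obj.map (oEmap (hVW i)).op s = t i := by
  have hs := (Presieve.isSheafFor_arrows_iff (F.obj ⋙ forget AddCommGrpCat.{u + 1})
    (fun i => oEmap (hVW i))).1 (isSheafFor_zcover V W hVW hcov F)
  have hx : Presieve.Arrows.Compatible (F.obj ⋙ forget AddCommGrpCat.{u + 1})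
      (fun i => oEmap (hVW i)) t := by
    intro i j Z gi gj _
    have e1 : gi = toInf gi gj ≫ oEmap inf_le_left := Subsingleton.elim _ _
    have e2 : gj = toInf gi gj ≫ oEmap inf_le_right := Subsingleton.elim _ _
    change F.obj.map gi.op (t i) = F.obj.map gj.op (t j)
    have h1 : F.obj.map gi.op (t i) =
        F.obj.map (toInf gi gj).op (F.obj.map (oEmap inf_le_left).op (t i)) := by
      rw [← ConcreteCategory.comp_apply, ← Functor.map_comp, ← op_comp, ← e1]
    have h2 : F.obj.map gj.op (t j) =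
        F.obj.map (toInf gi gj).op (F.obj.map (oEmap inf_le_right).op (t j)) := by
      rw [← ConcreteCategory.comp_apply, ← Functor.map_comp, ← op_comp, ← e2]
    rw [h1, h2, hcompat i j]
  obtain ⟨s, hs1, -⟩ := hs t hx
  exact ⟨s, hs1⟩

end Cover

lemma map_oEmap_comp (F : EtCoh.Ab X) {U U' U'' : X.Opens} (h : U' ≤ U) (h' : U'' ≤ U')
    (t : F.obj.obj (op (oE U))) :
    F.obj.map (oEmap h').op (F.obj.map (oEmap h).op t) = F.obj.map (oEmap (h'.trans h)).op t := by
  rw [← ConcreteCategory.comp_apply, ← Functor.map_comp, ← op_comp]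
  have e : oEmap h' ≫ oEmap h = oEmap (h'.trans h) := Subsingleton.elim _ _
  rw [e]

section Gm

/-- Units on an open as sections of `G_m`. -/
def gmZ (U : X.Opens) (a : (Γ(X, U))ˣ) : (EtCoh.Gm X).obj.obj (op (oE U)) :=
  (ULift.up (Additive.ofMul (Units.map
    (U.topIso.inv.hom : Γ(X, U) →* Γ(U, ⊤)) a)) : GmSec (oE U))

lemma gmZ_mul (U : X.Opens) (a b : (Γ(X, U))ˣ) : gmZ U (a * b) = gmZ U a + gmZ U b := by
  apply ULift.ext
  change Additive.ofMul (Units.map _ (a * b)) = Additive.ofMul (Units.map _ a) +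
    Additive.ofMul (Units.map _ b)
  rw [map_mul]
  rfl

lemma gmZ_one (U : X.Opens) : gmZ U 1 = 0 := by
  apply ULift.ext
  change Additive.ofMul (Units.map _ 1) = 0
  rw [map_one]
  rfl

lemma topIso_hom_inv_apply (U : X.Opens) (x : Γ(X, U)) :
    U.topIso.hom.hom (U.topIso.inv.hom x) = x :=
  congrArg (fun φ : Γ(X, U) ⟶ Γ(X, U) => φ.hom x) U.topIso.inv_hom_id

lemma topIso_inv_hom_apply (U : X.Opens) (x : Γ(U, ⊤)) :
    U.topIso.inv.hom (U.topIso.hom.hom x) = x :=
  congrArg (fun φ : Γ(U, ⊤) ⟶ Γ(U, ⊤) => φ.hom x) U.topIso.hom_inv_id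

lemma gmZ_injective (U : X.Opens) : Function.Injective (gmZ (X := X) U) := by
  intro a b h
  have h1 : Units.map (U.topIso.inv.hom : Γ(X, U) →* Γ(U, ⊤)) a = Units.map _ b :=
    congrArg (fun t : GmSec (oE U) => t.down.toMul) h
  apply Units.ext
  have h2 : U.topIso.inv.hom (a : Γ(X, U)) = U.topIso.inv.hom (b : Γ(X, U)) :=
    congrArg Units.val h1
  have h3 := congrArg U.topIso.hom.hom h2
  rw [topIso_hom_inv_apply, topIso_hom_inv_apply] at h3
  exact h3

lemma gmZ_surjective (U : X.Opens) (s : (EtCoh.Gm X).obj.obj (op (oE U))) :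
    ∃ a : (Γ(X, U))ˣ, gmZ U a = s := by
  let s' : GmSec (oE U) := s
  refine ⟨Units.map (U.topIso.hom.hom : Γ(U, ⊤) →* Γ(X, U)) s'.down.toMul, ?_⟩
  apply ULift.ext
  apply Additive.toMul.injective
  apply Units.ext
  change U.topIso.inv.hom (U.topIso.hom.hom (Units.val (α := Γ(U, ⊤)) s'.down.toMul)) = _
  rw [topIso_inv_hom_apply]
  rfl

/-- Restriction of units. -/
lemma map_gmZ {U U' : X.Opens} (h : U' ≤ U) (a : (Γ(X, U))ˣ) :
    (EtCoh.Gm X).obj.map (oEmap h).op (gmZ U a) =
      gmZ U' (Units.map ((X.presheaf.map (homOfLE h).op).hom : Γ(X, U) →* Γ(X, U')) a) := by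
  apply ULift.ext
  apply Additive.toMul.injective
  apply Units.ext
  change (X.homOfLE h).appTop.hom (U.topIso.inv.hom (a : Γ(X, U))) =
    U'.topIso.inv.hom ((X.presheaf.map (homOfLE h).op).hom (a : Γ(X, U)))
  rw [Scheme.homOfLE_appTop]
  simp only [Scheme.Opens.topIso_inv, ← CommRingCat.comp_apply]
  refine congrArg (fun φ => (CommRingCat.Hom.hom φ) (a : Γ(X, U))) ?_
  exact (X.presheaf.map_comp _ _).symm.trans
    ((congrArg X.presheaf.map (Subsingleton.elim _ _)).trans (X.presheaf.map_comp _ _))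

end Gm

end

end Groth.Agent.Lib.Helper22.H90
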